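import Cfsg.Prelude.Def_SolvableStructure
import Mathlib

set_option autoImplicit false
set_option linter.style.haveILetI false

/-! Basic theory of supersolvable groups. -/

namespace Cfsg.Agent.H30

open Subgroup

universe u v

variable {G : Type u} [Group G] {G' : Type v} [Group G']

theorem isSupersolvable_of_subsingleton [Subsingleton G] : Cfsg.IsSupersolvable G :=
  ⟨0, fun _ => ⊥, rfl, Subsingleton.elim _ _, fun _ => normal_bot, fun i => i.elim0⟩

theorem isSupersolvable_of_surjective (hG : Cfsg.IsSupersolvable G) (f : G →* G')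
    (hf : Function.Surjective f) : Cfsg.IsSupersolvable G' := by
  obtain ⟨n, H, h0, h1, hN, hs⟩ := hG
  refine ⟨n, fun i => (H i).map f, ?_, ?_, fun i => (hN i).map f hf, fun i => ?_⟩
  · simp [h0]
  · simp only [h1]; exact map_top_of_surjective f hf
  · obtain ⟨g, hg⟩ := hs i
    refine ⟨f g, ?_⟩
    simp only [hg, Subgroup.map_sup, MonoidHom.map_zpowers]

theorem isSupersolvable_congr (e : G ≃* G') (hG : Cfsg.IsSupersolvable G) :
    Cfsg.IsSupersolvable G' :=
  isSupersolvable_of_surjective hG e.toMonoidHom e.surjective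

theorem isSupersolvable_quotient (hG : Cfsg.IsSupersolvable G) (N : Subgroup G) [N.Normal] :
    Cfsg.IsSupersolvable (G ⧸ N) :=
  isSupersolvable_of_surjective hG _ (QuotientGroup.mk'_surjective N)

/-- An extension of a cyclic group by a supersolvable group is supersolvable. -/
theorem isSupersolvable_of_quotient_cyclic (N : Subgroup G) [N.Normal] (hN : IsCyclic N)
    (h : Cfsg.IsSupersolvable (G ⧸ N)) : Cfsg.IsSupersolvable G := by
  obtain ⟨n, H, h0, h1, hn, hs⟩ := h
  obtain ⟨g₀, hg₀⟩ := Subgroup.isCyclic_iff_exists_zpowers_eq_top N |>.1 hN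
  refine ⟨n + 1, Fin.cons ⊥ (fun i => (H i).comap (QuotientGroup.mk' N)), rfl, ?_, ?_, ?_⟩
  · rw [← Fin.succ_last, Fin.cons_succ, h1, comap_top]
  · intro i
    induction i using Fin.cases with
    | zero => simpa using normal_bot
    | succ j => simp only [Fin.cons_succ]; exact (hn j).comap _
  · intro i
    induction i using Fin.cases with
    | zero =>
      refine ⟨g₀, ?_⟩
      simp [Fin.castSucc_zero, h0, hg₀]
    | succ j =>
      obtain ⟨g, hg⟩ := hs j
      obtain ⟨x, rfl⟩ := QuotientGroup.mk'_surjective N g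
      refine ⟨x, ?_⟩
      rw [Fin.castSucc_succ, Fin.cons_succ, Fin.cons_succ, hg, ← MonoidHom.map_zpowers]
      conv_lhs => rw [← map_comap_eq_self_of_surjective (QuotientGroup.mk'_surjective N) (H j.castSucc),
        ← Subgroup.map_sup, comap_map_eq]
      apply sup_of_le_left
      exact le_sup_of_le_left (Subgroup.ker_le_comap _ _)

/-- If the image of a subgroup `X` in a quotient is contained in a cyclic group, then `X` is
generated by its part in the kernel and one element. -/
theorem exists_zpowers_sup_of_le {A X : Subgroup G} [A.Normal] {g : G}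
    (hX : X ≤ A ⊔ zpowers g) : ∃ x ∈ X, X = (X ⊓ A) ⊔ zpowers x := by
  have hle : X.map (QuotientGroup.mk' A) ≤ zpowers (QuotientGroup.mk' A g) := by
    refine (map_mono hX).trans ?_
    rw [Subgroup.map_sup, MonoidHom.map_zpowers, QuotientGroup.map_mk'_self, bot_sup_eq]
  have hc : IsCyclic (X.map (QuotientGroup.mk' A)) :=
    isCyclic_of_le hle
  obtain ⟨y, hy⟩ := Subgroup.isCyclic_iff_exists_zpowers_eq_top _ |>.1 hc
  have hym : y ∈ X.map (QuotientGroup.mk' A) := hy ▸ mem_zpowers y
  obtain ⟨x, hx, rfl⟩ := hym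
  refine ⟨x, hx, le_antisymm ?_ (sup_le inf_le_left (zpowers_le.2 hx))⟩
  intro z hz
  have : QuotientGroup.mk' A z ∈ zpowers (QuotientGroup.mk' A x) := hy ▸ mem_map_of_mem _ hz
  obtain ⟨k, hk⟩ := mem_zpowers_iff.1 this
  have hA : z * (x ^ k)⁻¹ ∈ A := by
    rw [← QuotientGroup.ker_mk' A, MonoidHom.mem_ker, map_mul, map_inv, map_zpow, hk, mul_inv_cancel]
  have : z = (z * (x ^ k)⁻¹) * x ^ k := by group
  rw [this]
  exact mul_mem_sup (show z * (x ^ k)⁻¹ ∈ X ⊓ A from ⟨X.mul_mem hz (X.inv_mem (X.zpow_mem hx k)), hA⟩) (show x ^ k ∈ zpowers x from zpow_mem (mem_zpowers x) k)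

theorem isSupersolvable_subgroup (hG : Cfsg.IsSupersolvable G) (K : Subgroup G) :
    Cfsg.IsSupersolvable K := by
  obtain ⟨n, H, h0, h1, hn, hs⟩ := hG
  refine ⟨n, fun i => (H i).subgroupOf K, by simp [h0], by simp [h1],
    fun i => (hn i).subgroupOf K, fun i => ?_⟩
  obtain ⟨g, hg⟩ := hs i
  haveI := hn i.castSucc
  obtain ⟨x, hx, hxe⟩ := exists_zpowers_sup_of_le (A := H i.castSucc) (X := H i.succ ⊓ K) (g := g)
    (inf_le_left.trans hg.le)
  refine ⟨⟨x, hx.2⟩, ?_⟩
  apply map_injective K.subtype_injective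
  rw [Subgroup.map_sup, MonoidHom.map_zpowers, subgroupOf_map_subtype, subgroupOf_map_subtype]
  have h2 : H i.succ ⊓ K ⊓ H i.castSucc = H i.castSucc ⊓ K := by
    apply le_antisymm
    · exact le_inf inf_le_right (inf_le_left.trans inf_le_right)
    · exact le_inf (le_inf (inf_le_left.trans (by rw [hg]; exact le_sup_left)) inf_le_right) inf_le_left
  rw [h2] at hxe
  exact hxe

/-- Every subgroup of a cyclic normal subgroup is normal. -/
theorem normal_of_le_zpowers {g : G} (hn : (zpowers g).Normal) {M : Subgroup G}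
    (hM : M ≤ zpowers g) : M.Normal := by
  refine ⟨fun x hx a => ?_⟩
  obtain ⟨k, hk⟩ := mem_zpowers_iff.1 (hn.conj_mem g (mem_zpowers g) a)
  obtain ⟨j, rfl⟩ := mem_zpowers_iff.1 (hM hx)
  have : a * g ^ j * a⁻¹ = (g ^ j) ^ k := by
    rw [← conj_zpow, ← hk, ← zpow_mul, ← zpow_mul, mul_comm]
  rw [this]
  exact zpow_mem hx k

/-- A nontrivial normal subgroup of a finite supersolvable group contains a normal subgroup of
prime order. -/
theorem exists_normal_prime_le [Finite G] (hG : Cfsg.IsSupersolvable G) (M : Subgroup G)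
    [M.Normal] (hM : M ≠ ⊥) :
    ∃ N : Subgroup G, N.Normal ∧ N ≤ M ∧ (Nat.card N).Prime := by
  obtain ⟨n, H, h0, h1, hn, hs⟩ := hG
  have key : ∀ i : Fin (n+1), H i ⊓ M ≠ ⊥ → ∃ g : G, g ≠ 1 ∧ g ∈ M ∧ (zpowers g).Normal := by
    intro i
    induction i using Fin.induction with
    | zero => intro h; simp [h0] at h
    | succ j ih =>
      intro h
      by_cases hb : H j.castSucc ⊓ M = ⊥
      · obtain ⟨g, hg⟩ := hs j
        haveI := hn j.castSucc
        obtain ⟨x, hx, hxe⟩ := exists_zpowers_sup_of_le (A := H j.castSucc) (X := H j.succ ⊓ M)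
          (g := g) (inf_le_left.trans hg.le)
        have h2 : H j.succ ⊓ M ⊓ H j.castSucc = ⊥ := by
          rw [eq_bot_iff, ← hb]; exact le_inf inf_le_right (inf_le_left.trans inf_le_right)
        rw [h2, bot_sup_eq] at hxe
        haveI := hn j.succ
        refine ⟨x, ?_, hx.2, hxe ▸ (inferInstance : (H j.succ ⊓ M).Normal)⟩
        rintro rfl
        exact h (by rw [hxe, zpowers_one_eq_bot])
      · exact ih hb
  obtain ⟨g, hg1, hgM, hgn⟩ := key (Fin.last n) (by rwa [h1, top_inf_eq])
  have hne : Nat.card (zpowers g) ≠ 1 := by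
    rw [Nat.card_zpowers]; exact fun h => hg1 (orderOf_eq_one_iff.1 h)
  obtain ⟨p, hp, hpd⟩ := Nat.exists_prime_and_dvd hne
  haveI := Fact.mk hp
  obtain ⟨x, hx⟩ := exists_prime_orderOf_dvd_card' p hpd
  have hle : zpowers (x : G) ≤ zpowers g := zpowers_le.2 x.2
  refine ⟨zpowers (x : G), normal_of_le_zpowers hgn hle, hle.trans (zpowers_le.2 hgM), ?_⟩
  rw [Nat.card_zpowers, Subgroup.orderOf_coe, hx]; exact hp

theorem exists_normal_prime [Finite G] [Nontrivial G] (hG : Cfsg.IsSupersolvable G) :
    ∃ N : Subgroup G, N.Normal ∧ (Nat.card N).Prime := by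
  obtain ⟨N, hN, -, hp⟩ := exists_normal_prime_le hG ⊤ top_ne_bot
  exact ⟨N, hN, hp⟩

theorem isCyclic_of_prime_card' {N : Subgroup G} (hp : (Nat.card N).Prime) : IsCyclic N :=
  haveI := Fact.mk hp
  isCyclic_of_prime_card (p := Nat.card N) rfl

theorem card_quotient_lt [Finite G] (N : Subgroup G) (h : N ≠ ⊥) :
    Nat.card (G ⧸ N) < Nat.card G := by
  rw [card_eq_card_quotient_mul_card_subgroup N]
  have h1 : 1 < Nat.card N := N.one_lt_card_iff_ne_bot.2 h
  exact lt_mul_of_one_lt_right Nat.card_pos h1

theorem ne_bot_of_prime_card {N : Subgroup G} (hp : (Nat.card N).Prime) : N ≠ ⊥ := by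
  rintro rfl
  simp [Nat.not_prime_one] at hp

/-- Induction on supersolvable finite groups. -/
theorem supersolvable_induction
    {P : ∀ (X : Type u) [Group X], Prop}
    (base : ∀ (X : Type u) [Group X] [Subsingleton X], P X)
    (step : ∀ (X : Type u) [Group X] [Finite X] (N : Subgroup X) [N.Normal],
      Cfsg.IsSupersolvable X → (Nat.card N).Prime → P (X ⧸ N) → P X)
    [Finite G] (hG : Cfsg.IsSupersolvable G) : P G := by
  have main : ∀ (n : ℕ) (X : Type u) [Group X] [Finite X],
      Nat.card X ≤ n → Cfsg.IsSupersolvable X → P X := by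
    intro n
    induction n with
    | zero => intro X _ _ h; exact absurd h (Nat.not_le.2 Nat.card_pos)
    | succ n ih =>
      intro X _ _ h hX
      cases subsingleton_or_nontrivial X
      · exact base X
      · obtain ⟨N, hN, hp⟩ := exists_normal_prime hX
        have := card_quotient_lt N (ne_bot_of_prime_card hp)
        exact step X N hX hp (ih _ (by omega) (isSupersolvable_quotient hX N))
  exact main _ G le_rfl hG

theorem isSupersolvable_isPGroup [Finite G] {p : ℕ} [Fact p.Prime] (h : IsPGroup p G) :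
    Cfsg.IsSupersolvable G := by
  have main : ∀ (n : ℕ) (X : Type u) [Group X] [Finite X],
      Nat.card X ≤ n → IsPGroup p X → Cfsg.IsSupersolvable X := by
    intro n
    induction n with
    | zero => intro X _ _ h; exact absurd h (Nat.not_le.2 Nat.card_pos)
    | succ n ih =>
      intro X _ _ hc hX
      cases subsingleton_or_nontrivial X
      · exact isSupersolvable_of_subsingleton
      · have hZ : Nontrivial (center X) := hX.center_nontrivial
        have hd : p ∣ Nat.card (center X) := by
          obtain ⟨k, hk⟩ := (hX.to_subgroup (center X)).exists_card_eq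
          rw [hk]
          refine dvd_pow_self p ?_
          rintro rfl
          simpa [hk] using Finite.one_lt_card (α := center X)
        obtain ⟨z, hz⟩ := exists_prime_orderOf_dvd_card' p hd
        have hzn : (zpowers (z : X)).Normal := by
          refine ⟨fun a ha b => ?_⟩
          have hac : a ∈ center X := zpowers_le.2 z.2 ha
          rw [mem_center_iff.1 hac b, mul_inv_cancel_right]
          exact ha
        have hne : zpowers (z : X) ≠ ⊥ := by
          rw [ne_eq, zpowers_eq_bot]
          intro h1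
          have : orderOf (z : X) = 1 := by simp [h1]
          rw [Subgroup.orderOf_coe, hz] at this
          exact (Fact.out : p.Prime).ne_one this
        have := card_quotient_lt _ hne
        exact isSupersolvable_of_quotient_cyclic (zpowers (z : X)) inferInstance
          (ih (X ⧸ zpowers (z : X)) (by omega) (hX.to_quotient _))
  exact main _ G le_rfl h

theorem isSolvable_of_isSupersolvable [Finite G] (hG : Cfsg.IsSupersolvable G) : Group.IsSolvable G := by
  refine supersolvable_induction (P := fun X _ => Group.IsSolvable X) ?_ ?_ hG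
  · intro X _ _; infer_instance
  · intro X _ _ N _ _ hp ih
    haveI := isCyclic_of_prime_card' hp
    exact (Group.isSolvable_iff_subgroup_quotient N).2 ⟨inferInstance, ih⟩

end Cfsg.Agent.H30
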