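import Cfsg.Prelude.Def_Balance
import Cfsg.Agent.H40.Generation
import Cfsg.Agent.Coprime.Action

/-!
Corollaries of the solvable signalizer functor theorem. The theorem itself enters as the hypothesis
`Solved`: some member of the family meets every `C(a)` in exactly `θ a`.
-/

set_option autoImplicit false
set_option linter.unusedSectionVars false

namespace Cfsg.Agent.H30.Signalizer

open Subgroup

universe u

variable {G : Type u} [Group G] [Finite G] {p : ℕ} [hp : Fact p.Prime] {A : Subgroup G}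
  {θ : G → Subgroup G}

/-- Some member of the family meets each centralizer in the value of the functor. -/
def Solved (p : ℕ) (A : Subgroup G) (θ : G → Subgroup G) : Prop :=
  ∃ W ∈ Cfsg.signalizerFamily p A θ, ∀ a ∈ A, a ≠ 1 → W ⊓ centralizer {a} = θ a

/-- The statement of the solvable signalizer functor theorem. -/
def Theorem (G : Type u) [Group G] (p : ℕ) : Prop :=
  ∀ (A : Subgroup G) (θ : G → Subgroup G), Cfsg.IsElementaryAbelian p A → p ^ 3 ≤ Nat.card A →
    Cfsg.IsSolvableSignalizerFunctor p A θ → Solved p A θ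

theorem family_le_normalizer {X : Subgroup G} (hX : X ∈ Cfsg.signalizerFamily p A θ) :
    A ≤ normalizer (X : Set G) :=
  le_normalizer_iff.mpr hX.2.2.1

theorem closure_eq (hA : Cfsg.IsElementaryAbelian p A) (hA3 : p ^ 3 ≤ Nat.card A) {W : Subgroup G}
    (hW : W ∈ Cfsg.signalizerFamily p A θ)
    (h : ∀ a ∈ A, a ≠ 1 → W ⊓ centralizer {a} = θ a) : Cfsg.signalizerClosure A θ = W := by
  refine le_antisymm (iSup_le fun a => (h a a.2.1 a.2.2).ge.trans inf_le_left) ?_
  refine H40.le_of_hyperplanes hA hW.2.1 (family_le_normalizer hW) fun B hB hi => ?_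
  have hBne : B ≠ ⊥ := by
    rintro rfl
    rw [relIndex_bot_left] at hi
    have := hp.out.two_le
    nlinarith [hA3.trans hi, pow_succ p 2, pow_two p]
  obtain ⟨b, hb, hb1⟩ := B.bot_or_exists_ne_one.resolve_left hBne
  refine le_trans ?_ (le_iSup (fun a : {a : G // a ∈ A ∧ a ≠ 1} => θ (a : G)) ⟨b, hB hb, hb1⟩)
  rw [← h b (hB hb) hb1]
  exact inf_le_inf_left _ (centralizer_le (Set.singleton_subset_iff.mpr hb))

theorem closure_spec (hA : Cfsg.IsElementaryAbelian p A) (hA3 : p ^ 3 ≤ Nat.card A)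
    (h : Solved p A θ) : ¬ p ∣ Nat.card ↥(Cfsg.signalizerClosure A θ) ∧
      Group.IsSolvable ↥(Cfsg.signalizerClosure A θ) ∧
      ∀ a ∈ A, a ≠ 1 → Cfsg.signalizerClosure A θ ⊓ centralizer {a} = θ a := by
  obtain ⟨W, hW, hC⟩ := h
  rw [closure_eq hA hA3 hW hC]
  exact ⟨hW.2.1, hW.1, hC⟩

theorem complete_of_solved (hθ : Cfsg.IsSolvableSignalizerFunctor p A θ) (h : Solved p A θ) :
    Cfsg.IsCompleteSignalizerFunctor p A θ := by
  obtain ⟨W, hW, hC⟩ := h
  exact ⟨hθ.1, W, hW.2.2.1, hW.2.1, hC⟩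

/-- A group of order prime to `p` acted on by `A` of rank at least three with all centralizers
solvable is solvable. -/
theorem isSolvable_of_centralizers (hT : Theorem G p) (hA : Cfsg.IsElementaryAbelian p A)
    (hA3 : p ^ 3 ≤ Nat.card A) {K : Subgroup G} (hK : ¬ p ∣ Nat.card K)
    (hAK : A ≤ normalizer (K : Set G))
    (hC : ∀ a ∈ A, a ≠ 1 → Group.IsSolvable ↥(K ⊓ centralizer ({a} : Set G))) :
    Group.IsSolvable K := by
  have hinv : ∀ a ∈ A, ∀ b ∈ A, ∀ x ∈ K ⊓ centralizer ({a} : Set G),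
      b * x * b⁻¹ ∈ K ⊓ centralizer ({a} : Set G) := by
    intro a ha b hb x hx
    have hba : b ∈ centralizer ({a} : Set G) :=
      mem_centralizer_singleton_iff.mpr (H40.elemAb_commute hA hb ha)
    have hxa : x ∈ centralizer ({a} : Set G) := hx.2
    exact ⟨Coprime.conj_mem (hAK hb) hx.1,
      (centralizer ({a} : Set G)).mul_mem ((centralizer ({a} : Set G)).mul_mem hba hxa)
        ((centralizer ({a} : Set G)).inv_mem hba)⟩
  have hθ : Cfsg.IsSolvableSignalizerFunctor p A (fun a => K ⊓ centralizer ({a} : Set G)) :=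
    ⟨⟨fun a _ _ => inf_le_right,
      fun a _ _ h => hK (h.trans (Subgroup.card_dvd_of_le inf_le_left)),
      fun a ha _ b hb x hx => hinv a ha b hb x hx,
      fun a _ _ b _ _ => inf_le_inf_right _ inf_le_left⟩, hC⟩
  obtain ⟨W, hW, hWC⟩ := hT A _ hA hA3 hθ
  refine Coprime.isSolvable_of_le ?_ hW.1
  refine H40.le_of_hyperplanes hA hK hAK fun B hB hi => ?_
  have hBne : B ≠ ⊥ := by
    rintro rfl
    rw [relIndex_bot_left] at hi
    have := hp.out.two_le
    nlinarith [hA3.trans hi, pow_succ p 2, pow_two p]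
  obtain ⟨b, hb, hb1⟩ := B.bot_or_exists_ne_one.resolve_left hBne
  refine le_trans (inf_le_inf_left _ (centralizer_le (Set.singleton_subset_iff.mpr hb))) ?_
  exact (hWC b (hB hb) hb1).ge.trans inf_le_left

end Cfsg.Agent.H30.Signalizer
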