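import Cfsg.Agent.Fusion.SignalizerTrivial
import Cfsg.Agent.Signalizer.Main
import Cfsg.Agent.Signalizer.Corollaries
import Cfsg.Agent.S3246
import Cfsg.Agent.PGroups.Basic

/-!
2-constrained 2-locals and a normal abelian subgroup of 2-rank at least 3 in a Sylow 2-subgroup:
the cores of the centralisers generate one subgroup of odd order (modulo the solvability of groups
of odd order).
-/

set_option autoImplicit false
set_option linter.unusedSectionVars false

namespace Cfsg.Agent.H30.ConnectedCores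

open Subgroup Cfsg.Agent.Fusion.Signalizer
open Cfsg (centralizerPPrimeCore)

universe u

variable {G : Type u} [Group G] [Finite G]

local instance : Fact (Nat.Prime 2) := ⟨Nat.prime_two⟩

/-- The functor. -/
abbrev th (a : G) : Subgroup G := centralizerPPrimeCore 2 a

/-- Every elementary abelian `D` gives commuting elements. -/
theorem comm_of_elem {D : Subgroup G} (hD : Cfsg.IsElementaryAbelian 2 D) {a b : G} (ha : a ∈ D)
    (hb : b ∈ D) : a * b = b * a :=
  congrArg Subtype.val (hD.1.1.comm ⟨a, ha⟩ ⟨b, hb⟩)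

/-- An elementary abelian subgroup of order at least 4 inside a subgroup of 2-rank at least 2. -/
theorem exists_elementary_four {B : Subgroup G} (h : ¬ Cfsg.PRankLE 2 1 ↥B) :
    ∃ A : Subgroup G, A ≤ B ∧ Cfsg.IsElementaryAbelian 2 A ∧ 4 ≤ Nat.card A := by
  obtain ⟨A, hA⟩ := not_forall.mp h
  simp only [Classical.not_imp, not_le] at hA
  obtain ⟨hc, he, hlt⟩ := hA
  refine ⟨A.map B.subtype, map_subtype_le A, ⟨⟨⟨?_⟩⟩, ?_⟩, ?_⟩
  · rintro ⟨_, x, hx, rfl⟩ ⟨_, y, hy, rfl⟩
    exact Subtype.ext (congrArg (fun z : ↥A => ((z : ↥B) : G)) (hc.1.comm ⟨x, hx⟩ ⟨y, hy⟩))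
  · rintro _ ⟨x, hx, rfl⟩
    rw [← map_pow, he x hx, map_one]
  · rw [card_map_of_injective B.subtype_injective]
    have hAp : IsPGroup 2 A := fun x => ⟨1, Subtype.ext (by simpa using he x x.2)⟩
    obtain ⟨n, hn⟩ := IsPGroup.iff_card.mp hAp
    rw [hn] at hlt ⊢
    exact Nat.pow_le_pow_right (by norm_num : 2 > 0)
      (show 2 ≤ n from (Nat.pow_lt_pow_iff_right (by norm_num)).mp hlt)

/-- `A` normal abelian with 2-rank at least 3 gives a normalised elementary subgroup of order 8. -/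
theorem exists_normal_elementary {S : Subgroup G} (A : Subgroup ↥S) (hAn : A.Normal)
    (hAab : IsMulCommutative ↥A) (hA3 : ¬ Cfsg.PRankLE 2 2 ↥A) :
    ∃ E : Subgroup G, E ≤ S ∧ S ≤ normalizer (E : Set G) ∧ Cfsg.IsElementaryAbelian 2 E ∧
      8 ≤ Nat.card E := by
  have hc : ∀ a ∈ A, ∀ b ∈ A, a * b = b * a := fun a ha b hb =>
    congrArg Subtype.val (hAab.1.comm ⟨a, ha⟩ ⟨b, hb⟩)
  let E : Subgroup ↥S :=
    { carrier := {a | a ∈ A ∧ a ^ 2 = 1}
      one_mem' := ⟨A.one_mem, one_pow 2⟩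
      mul_mem' := fun {a b} ha hb => ⟨A.mul_mem ha.1 hb.1, by
        rw [(show Commute a b from hc _ ha.1 _ hb.1).mul_pow, ha.2, hb.2, one_mul]⟩
      inv_mem' := fun {a} ha => ⟨A.inv_mem ha.1, by rw [inv_pow, ha.2, inv_one]⟩ }
  refine ⟨E.map S.subtype, map_subtype_le E, ?_, ⟨⟨⟨?_⟩⟩, ?_⟩, ?_⟩
  · have : E.Normal := ⟨fun a ha g => ⟨hAn.conj_mem a ha.1 g, by rw [conj_pow, ha.2, mul_one, mul_inv_cancel]⟩⟩
    exact Components.le_normalizer_map_subtype _
  · rintro ⟨_, x, hx, rfl⟩ ⟨_, y, hy, rfl⟩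
    exact Subtype.ext (congrArg (fun w : ↥S => (w : G)) (hc x hx.1 y hy.1))
  · rintro _ ⟨x, hx, rfl⟩
    rw [← map_pow, hx.2, map_one]
  · rw [card_map_of_injective S.subtype_injective]
    obtain ⟨D, hDA, hD, hD3⟩ := exists_elementary_of_not_pRankLE (p := 2) hA3
    exact hD3.trans (card_le_of_le fun d hd => ⟨hDA hd, hD.2 d hd⟩)

variable (h2c : ∀ T : Subgroup G, IsPGroup 2 T → T ≠ ⊥ →
    Cfsg.IsPConstrained 2 ↥(normalizer (T : Set G)))
  (hFT : ∀ H : Subgroup G, Odd (Nat.card H) → Group.IsSolvable H)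

include h2c in
theorem constrained {t : G} (ht : orderOf t = 2) :
    Cfsg.IsPConstrained 2 ↥(centralizer ({t} : Set G)) := by
  have h := h2c (zpowers t) (IsPGroup.of_card (n := 1) (by rw [Nat.card_zpowers, ht, pow_one]))
    (fun h => by
      rw [zpowers_eq_bot] at h
      rw [h, orderOf_one] at ht
      omega)
  rwa [S3246.normalizer_zpowers_invol ht] at h

include h2c in
/-- An involution commuting with a 2-element `a` catches the centraliser of itself in `θ a`. -/
theorem balance {a b : G} (ha : H40.IsPElem 2 a) (hb : orderOf b = 2) (hab : a * b = b * a) :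
    th a ⊓ centralizer ({b} : Set G) ≤ th b :=
  H40.balance_of_constrained ha hab (constrained h2c hb)

include h2c hFT in
/-- Elementary subgroups of order `≥ 4` of an elementary one of order `≥ 8` generate the same. -/
theorem gen_eq_gen {D E : Subgroup G} (hD : Cfsg.IsElementaryAbelian 2 D) (hD8 : 8 ≤ Nat.card D)
    (hE : Cfsg.IsElementaryAbelian 2 E) (hE4 : 4 ≤ Nat.card E) (hED : E ≤ D) :
    gen th E = gen th D ∧ ¬ 2 ∣ Nat.card (gen th E) := by
  have hs : Cfsg.IsSolvableSignalizerFunctor 2 D th := by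
    refine isSolvableSignalizerFunctor (fun a _ => ⟨H47.centralizerPPrimeCore_le a,
      H47.not_dvd_centralizerPPrimeCore a, hFT _ ?_⟩) (fun a g _ => centralizerPPrimeCore_conj a g)
      (fun a b ha hb hab => balance h2c ⟨1, by rw [pow_one, ← ha.1, pow_orderOf_eq_one]⟩ hb.1 hab)
      hD (by simpa using hD8)
    exact Nat.not_even_iff_odd.1 fun he => H47.not_dvd_centralizerPPrimeCore a he.two_dvd
  exact gen_eq hD (Signalizer.complete_hyp_of_closed (Signalizer.twoColourClosed 2) G D th hD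
    (by simpa using hD8) hs) hE hED (by simpa using hE4)

section

variable {S E : Subgroup G} (hS : IsPGroup 2 S) (hES : E ≤ S) (hSE : S ≤ normalizer (E : Set G))
  (hE : Cfsg.IsElementaryAbelian 2 E) (hE8 : 8 ≤ Nat.card E)

include hSE hE hE8 in
/-- An involution of `S` centralises a subgroup of order at least 4 of `E`. -/
theorem four_le_fixed {t : G} (htS : t ∈ S) (ht : t * t = 1) :
    4 ≤ Nat.card ↥(E ⊓ centralizer ({t} : Set G)) := by
  have hn : ∀ x ∈ E, t * x * t⁻¹ ∈ E := fun x hx => (mem_normalizer_iff.1 (hSE htS) x).1 hx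
  let f : E →* E :=
    { toFun := fun x => ⟨x.1 * (t * x.1 * t⁻¹), E.mul_mem x.2 (hn _ x.2)⟩
      map_one' := by simp
      map_mul' := fun x y => Subtype.ext (by
        show (x.1 * y.1) * (t * (x.1 * y.1) * t⁻¹) = x.1 * (t * x.1 * t⁻¹) * (y.1 * (t * y.1 * t⁻¹))
        rw [show t * (x.1 * y.1) * t⁻¹ = (t * x.1 * t⁻¹) * (t * y.1 * t⁻¹) by group,
          mul_assoc x.1 y.1, ← mul_assoc y.1, comm_of_elem hE y.2 (hn _ x.2)]
        simp only [mul_assoc]) }
  set Et := E ⊓ centralizer ({t} : Set G) with hEt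
  have hfix : ∀ v ∈ E, t * v * t⁻¹ = v → v ∈ Et := fun v hv h =>
    ⟨hv, mem_centralizer_singleton_iff.2 (mul_inv_eq_iff_eq_mul.1 h).symm⟩
  have hker : Nat.card f.ker ≤ Nat.card Et := by
    refine Nat.card_le_card_of_injective (fun x => ⟨(x.1 : G), hfix _ x.1.2 ?_⟩) fun x y h =>
      Subtype.ext (Subtype.ext (congrArg (fun v : Et => (v : G)) h))
    have h1 : (x.1 : G) * (t * x.1 * t⁻¹) = 1 := congrArg Subtype.val (MonoidHom.mem_ker.1 x.2)
    have h2 : (x.1 : G) * x.1 = 1 := by rw [← pow_two]; exact hE.2 _ x.1.2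
    exact mul_left_cancel (h1.trans h2.symm)
  have hran : Nat.card f.range ≤ Nat.card Et := by
    refine Nat.card_le_card_of_injective (fun x => ⟨(x.1 : G), hfix _ x.1.2 ?_⟩) fun x y h =>
      Subtype.ext (Subtype.ext (congrArg (fun v : Et => (v : G)) h))
    obtain ⟨_, w, rfl⟩ := x
    show t * ((w : G) * (t * w * t⁻¹)) * t⁻¹ = (w : G) * (t * w * t⁻¹)
    rw [show t * ((w : G) * (t * w * t⁻¹)) * t⁻¹ = (t * w * t⁻¹) * ((t * t) * w * (t * t)⁻¹) by group,
      ht, one_mul, inv_one, mul_one]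
    exact comm_of_elem hE (hn _ w.2) w.2
  have hEt3 : 2 < Nat.card Et := by
    have h1 := f.ker.card_mul_index
    rw [Subgroup.index_ker] at h1
    nlinarith
  obtain ⟨k, hk⟩ := IsPGroup.iff_card.mp (show IsPGroup 2 Et from fun x =>
    ⟨1, Subtype.ext (by simpa using hE.2 x x.2.1)⟩)
  have : 2 ≤ k := by
    by_contra h
    interval_cases k <;> omega
  calc 4 = 2 ^ 2 := rfl
    _ ≤ 2 ^ k := Nat.pow_le_pow_right (by norm_num) this
    _ = Nat.card Et := hk.symm

include hS hES hSE hE hE8 h2c hFT in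
/-- All fours of `S` generate the same subgroup as `E`. -/
theorem gen_const {B : Subgroup G} (hBS : B ≤ S) (hB : Cfsg.IsElementaryAbelian 2 B)
    (hB4 : 4 ≤ Nat.card B) : gen th B = gen th E := by
  have he := fun (D F : Subgroup G) hD hD8 hF hF4 hFD => (gen_eq_gen h2c hFT (D := D) (E := F) hD hD8 hF hF4 hFD).1
  have : (E.subgroupOf S).Normal := (normal_subgroupOf_iff_le_normalizer hES).2 hSE
  obtain ⟨z, hzE, hzc, hz⟩ := PGroups.exists_mem_center_orderOf_eq hS (E.subgroupOf S) (fun h => by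
    have := congrArg (fun K : Subgroup S => Nat.card K) h
    simp only [Nat.card_congr (subgroupOfEquivOfLe hES).toEquiv, card_bot] at this
    omega)
  have hzE' : (z : G) ∈ E := hzE
  have hzs : ∀ s ∈ S, s * (z : G) = z * s := fun s hs =>
    congrArg Subtype.val (mem_center_iff.1 hzc ⟨s, hs⟩)
  have hz2 : orderOf (z : G) = 2 := (orderOf_coe z).trans hz
  have hZ : Cfsg.IsElementaryAbelian 2 (zpowers (z : G)) := by
    refine ⟨inferInstance, fun x hx => ?_⟩
    have := orderOf_dvd_of_mem_zpowers hx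
    rw [hz2] at this
    exact orderOf_dvd_iff_pow_eq_one.1 this
  -- fours containing `z`
  have hfour : ∀ t ∈ S, ∀ ht : t * t = 1, ∀ Bz : Subgroup G, Cfsg.IsElementaryAbelian 2 Bz →
      4 ≤ Nat.card Bz → Bz = zpowers t ⊔ zpowers (z : G) → gen th Bz = gen th E := by
    intro t htS ht Bz hBz hBz4 hdef
    by_cases htE : t ∈ E
    · exact he E Bz hE hE8 hBz hBz4 (hdef ▸ sup_le (zpowers_le.2 htE) (zpowers_le.2 hzE'))
    set Et := E ⊓ centralizer ({t} : Set G) with hEt
    have hEte : Cfsg.IsElementaryAbelian 2 Et :=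
      H40.elemAb_mono hE inf_le_left
    have hzEt : zpowers (z : G) ≤ Et :=
      zpowers_le.2 ⟨hzE', mem_centralizer_singleton_iff.2 (hzs t htS).symm⟩
    have hBzc : Bz ≤ centralizer (Et : Set G) := by
      rw [hdef]
      refine sup_le (zpowers_le.2 ?_) (zpowers_le.2 ?_)
      · exact mem_centralizer_iff.2 fun x hx => mem_centralizer_singleton_iff.1 hx.2
      · exact mem_centralizer_iff.2 fun x hx => comm_of_elem hE hx.1 hzE'
    have hsup := elementary_sup hEte hBz fun a ha b hb => mem_centralizer_iff.1 (hBzc hb) a ha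
    have hEt4 : 4 ≤ Nat.card Et := four_le_fixed hSE hE hE8 htS ht
    have h8 : 8 ≤ Nat.card ↥(Et ⊔ Bz) := by
      have htBz : t ∈ Et ⊔ Bz := mem_sup_right (hdef ▸ mem_sup_left (mem_zpowers t) : t ∈ Bz)
      have hlt : Et < Et ⊔ Bz := lt_of_le_of_ne le_sup_left fun h => htE ((h.symm ▸ htBz : t ∈ Et).1)
      have hp : IsPGroup 2 ↥(Et ⊔ Bz) := fun x => ⟨1, Subtype.ext (by simpa using hsup.2 x x.2)⟩
      obtain ⟨n, hn⟩ := IsPGroup.iff_card.mp hp
      have hlt' : Nat.card Et < Nat.card ↥(Et ⊔ Bz) :=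
        lt_of_le_of_ne (card_le_of_le hlt.le) fun h => hlt.ne (eq_of_le_of_card_ge hlt.le h.ge)
      have : 3 ≤ n := by
        by_contra h
        interval_cases n <;> omega
      exact hn ▸ (Nat.pow_le_pow_right (by norm_num) this : 2 ^ 3 ≤ 2 ^ n)
    rw [he _ Bz hsup h8 hBz hBz4 le_sup_right, ← he _ Et hsup h8 hEte hEt4 le_sup_left,
      he E Et hE hE8 hEte hEt4 inf_le_left]
  have hBz := elementary_sup hB hZ fun a ha b hb => by
    obtain ⟨k, rfl⟩ := mem_zpowers_iff.mp hb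
    exact ((show Commute a (z : G) from hzs a (hBS ha)).zpow_right k).eq
  have h4 : 4 ≤ Nat.card ↥(B ⊔ zpowers (z : G)) := hB4.trans (card_le_of_le le_sup_left)
  obtain ⟨t, htB, htz⟩ : ∃ t ∈ B, t ∉ zpowers (z : G) := by
    refine SetLike.not_le_iff_exists.1 fun h => ?_
    have := card_le_of_le h
    rw [Nat.card_zpowers, hz2] at this
    omega
  have ht2 : t * t = 1 := by rw [← pow_two]; exact hB.2 t htB
  set Bt := zpowers t ⊔ zpowers (z : G) with hBtdef
  have hBtle : Bt ≤ B ⊔ zpowers (z : G) := sup_le_sup_right (zpowers_le.2 htB) _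
  have hBte := H40.elemAb_mono hBz hBtle
  have hBt4 : 4 ≤ Nat.card Bt := by
    have hp : IsPGroup 2 Bt := fun x => ⟨1, Subtype.ext (by simpa using hBte.2 x x.2)⟩
    obtain ⟨n, hn⟩ := IsPGroup.iff_card.mp hp
    have hlt : zpowers (z : G) < Bt := lt_of_le_of_ne le_sup_right fun h => htz (h.symm ▸ mem_sup_left (mem_zpowers t))
    have hlt' : Nat.card ↥(zpowers (z : G)) < Nat.card Bt :=
      lt_of_le_of_ne (card_le_of_le hlt.le) fun h => hlt.ne (eq_of_le_of_card_ge hlt.le h.ge)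
    rw [Nat.card_zpowers, hz2] at hlt'
    have : 2 ≤ n := by
      by_contra h
      interval_cases n <;> omega
    exact hn ▸ (Nat.pow_le_pow_right (by norm_num) this : 2 ^ 2 ≤ 2 ^ n)
  have hBtE : gen th Bt = gen th E := hfour t (hBS htB) ht2 Bt hBte hBt4 rfl
  by_cases h8 : 8 ≤ Nat.card ↥(B ⊔ zpowers (z : G))
  · rw [he _ B hBz h8 hB hB4 le_sup_left, ← he _ Bt hBz h8 hBte hBt4 hBtle, hBtE]
  · have hcard : Nat.card ↥(B ⊔ zpowers (z : G)) ≤ 4 := by
      have hp : IsPGroup 2 ↥(B ⊔ zpowers (z : G)) := fun x => ⟨1, Subtype.ext (by simpa using hBz.2 x x.2)⟩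
      obtain ⟨n, hn⟩ := IsPGroup.iff_card.mp hp
      have : n ≤ 2 := by
        by_contra h
        exact h8 (hn ▸ (Nat.pow_le_pow_right (by norm_num) (by omega : 3 ≤ n) : 2 ^ 3 ≤ 2 ^ n))
      exact hn ▸ (Nat.pow_le_pow_right (by norm_num) this : 2 ^ n ≤ 2 ^ 2)
    rw [eq_of_le_of_card_ge (le_sup_left : B ≤ B ⊔ zpowers (z : G)) (hcard.trans hB4),
      ← eq_of_le_of_card_ge hBtle (hcard.trans hBt4)]
    exact hBtE

include hS hES hSE hE hE8 h2c hFT in
/-- The value at any non-identity element of `S` lies in `gen th E`. -/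
theorem th_le_gen {b : G} (hb : b ∈ S) (hb1 : b ≠ 1) : th b ≤ gen th E := by
  -- an involution among the powers of `b`
  obtain ⟨i, hi2, hip⟩ : ∃ i : G, orderOf i = 2 ∧ i ∈ zpowers b := by
    have hne : zpowers b ≠ ⊥ := fun h => hb1 (zpowers_eq_bot.1 h)
    have hp : IsPGroup 2 ↥(zpowers b) := hS.to_le (zpowers_le.2 hb)
    obtain ⟨k, hk⟩ := IsPGroup.iff_card.mp hp
    have hk0 : k ≠ 0 := fun h => hne (card_eq_one.mp (by rw [hk, h, pow_zero]))
    obtain ⟨i, hi⟩ := exists_prime_orderOf_dvd_card' 2 (hk ▸ dvd_pow_self 2 hk0)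
    exact ⟨i, (orderOf_coe i).trans hi, i.2⟩
  have hiS : i ∈ S := zpowers_le.2 hb hip
  have hib : b * i = i * b := by
    obtain ⟨k, rfl⟩ := mem_zpowers_iff.mp hip
    exact ((Commute.refl b).zpow_right k).eq
  have hbp : H40.IsPElem 2 b := by
    obtain ⟨k, hk⟩ := hS ⟨b, hb⟩
    exact ⟨k, by simpa using congrArg Subtype.val hk⟩
  have hthi : th b ≤ th i := fun x hx => balance h2c hbp hi2 hib ⟨hx, by
    obtain ⟨k, rfl⟩ := mem_zpowers_iff.mp hip
    exact mem_centralizer_singleton_iff.2 ((show Commute x b from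
      mem_centralizer_singleton_iff.1 (H47.centralizerPPrimeCore_le b hx)).zpow_right k).eq⟩
  refine hthi.trans ?_
  -- an elementary four containing `i`
  have : (E.subgroupOf S).Normal := (normal_subgroupOf_iff_le_normalizer hES).2 hSE
  obtain ⟨z, hzE, hzc, hz⟩ := PGroups.exists_mem_center_orderOf_eq hS (E.subgroupOf S) (fun h => by
    have := congrArg (fun K : Subgroup S => Nat.card K) h
    simp only [Nat.card_congr (subgroupOfEquivOfLe hES).toEquiv, card_bot] at this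
    omega)
  set Ei := E ⊓ centralizer ({i} : Set G) with hEi
  have hii : i * i = 1 := by rw [← pow_two, ← hi2, pow_orderOf_eq_one]
  have hEie : Cfsg.IsElementaryAbelian 2 Ei := H40.elemAb_mono hE inf_le_left
  have hI : Cfsg.IsElementaryAbelian 2 (zpowers i) := by
    refine ⟨inferInstance, fun x hx => ?_⟩
    have := orderOf_dvd_of_mem_zpowers hx
    rw [hi2] at this
    exact orderOf_dvd_iff_pow_eq_one.1 this
  have hsup := elementary_sup hEie hI fun a ha c hc => by
    obtain ⟨k, rfl⟩ := mem_zpowers_iff.mp hc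
    exact ((show Commute a i from mem_centralizer_singleton_iff.1 ha.2).zpow_right k).eq
  have h4 : 4 ≤ Nat.card ↥(Ei ⊔ zpowers i) :=
    (four_le_fixed hSE hE hE8 hiS hii).trans (card_le_of_le le_sup_left)
  have hle : Ei ⊔ zpowers i ≤ S := sup_le (inf_le_left.trans hES) (zpowers_le.2 hiS)
  rw [← gen_const h2c hFT hS hES hSE hE hE8 hle hsup h4]
  exact le_iSup (fun y : {y : G // y ∈ Ei ⊔ zpowers i ∧ y ≠ 1} => th y.1)
    ⟨i, mem_sup_right (mem_zpowers i), fun h => by rw [h, orderOf_one] at hi2; omega⟩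

end

include h2c hFT in
/-- The statement. -/
theorem result (S : Sylow 2 G) (A : Subgroup ↥(S : Subgroup G)) (hAn : A.Normal)
    (hAab : IsMulCommutative ↥A) (hA3 : ¬ Cfsg.PRankLE 2 2 ↥A) (S' : Sylow 2 G) :
    ∃ W : Subgroup G, Odd (Nat.card ↥W) ∧
      ∀ B : Subgroup G, B ≤ (S' : Subgroup G) → ¬ Cfsg.PRankLE 2 1 ↥B →
        W = (⨆ b : {b : G // b ∈ B ∧ b ≠ 1}, Cfsg.centralizerPPrimeCore 2 (b : G)) ∧
        normalizer (B : Set G) ≤ normalizer (W : Set G) := by
  obtain ⟨E₀, hE₀S, hSE₀, hE₀, hE₀8⟩ := exists_normal_elementary A hAn hAab hA3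
  obtain ⟨g, hg⟩ := MulAction.exists_smul_eq G S S'
  set c := (MulAut.conj g).toMonoidHom
  have hS' : (S' : Subgroup G) = (S : Subgroup G).map c := by rw [← hg]; rfl
  set E := E₀.map c
  have hcinj : Function.Injective c := (MulAut.conj g).injective
  have hES : E ≤ (S' : Subgroup G) := hS' ▸ map_mono hE₀S
  have hSE : (S' : Subgroup G) ≤ normalizer (E : Set G) := by
    rw [hS', coe_map]
    exact (map_mono hSE₀).trans (le_normalizer_map _)
  have hE : Cfsg.IsElementaryAbelian 2 E := by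
    refine ⟨⟨⟨?_⟩⟩, ?_⟩
    · rintro ⟨_, x, hx, rfl⟩ ⟨_, y, hy, rfl⟩
      refine Subtype.ext ?_
      show c x * c y = c y * c x
      rw [← map_mul, ← map_mul, comm_of_elem hE₀ hx hy]
    · rintro _ ⟨x, hx, rfl⟩
      rw [← map_pow, hE₀.2 x hx, map_one]
  have hE8 : 8 ≤ Nat.card E := by rwa [card_map_of_injective hcinj]
  refine ⟨gen th E, Nat.not_even_iff_odd.1 fun he =>
    (gen_eq_gen h2c hFT hE hE8 hE (by omega) le_rfl).2 he.two_dvd, fun B hBS hB => ?_⟩
  have hW : gen th E = ⨆ b : {b : G // b ∈ B ∧ b ≠ 1}, th (b : G) := by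
    refine le_antisymm ?_ (iSup_le fun b => th_le_gen h2c hFT S'.2 hES hSE hE hE8 (hBS b.2.1) b.2.2)
    obtain ⟨B₀, hB₀, hB₀e, hB₀4⟩ := exists_elementary_four hB
    rw [← gen_const h2c hFT S'.2 hES hSE hE hE8 (hB₀.trans hBS) hB₀e hB₀4]
    exact iSup_le fun b => le_iSup (fun y : {y : G // y ∈ B ∧ y ≠ 1} => th y.1)
      ⟨b.1, hB₀ b.2.1, b.2.2⟩
  refine ⟨hW, fun n hn => ?_⟩
  rw [hW]
  have key : ∀ m ∈ normalizer (B : Set G), ∀ w ∈ ⨆ b : {b : G // b ∈ B ∧ b ≠ 1}, th (b : G),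
      m * w * m⁻¹ ∈ ⨆ b : {b : G // b ∈ B ∧ b ≠ 1}, th (b : G) := by
    intro m hm w hw
    refine (show (⨆ b : {b : G // b ∈ B ∧ b ≠ 1}, th (b : G)).map (MulAut.conj m).toMonoidHom ≤ _ from ?_)
      ⟨w, hw, rfl⟩
    rw [Subgroup.map_iSup]
    refine iSup_le fun b => ?_
    rw [← centralizerPPrimeCore_conj]
    exact le_iSup (fun y : {y : G // y ∈ B ∧ y ≠ 1} => th y.1)
      ⟨m * b.1 * m⁻¹, (mem_normalizer_iff.1 hm b.1).1 b.2.1,
        fun h => b.2.2 (mul_eq_left.1 (mul_inv_eq_one.1 h))⟩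
  exact mem_normalizer_iff.2 fun w => ⟨key n hn w, fun h => by
    simpa [mul_assoc] using key n⁻¹ (inv_mem hn) _ h⟩

end Cfsg.Agent.H30.ConnectedCores
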