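import Mathlib

set_option autoImplicit false

/-! Wielandt's join theorem for subnormal subgroups of finite groups. -/

namespace Cfsg.Agent.H30

open Subgroup
open scoped Pointwise

universe u

variable {G : Type u} [Group G]

theorem isSubnormal_sup_of_normal {N B : Subgroup G} [N.Normal] (hB : B.IsSubnormal) :
    (N ⊔ B).IsSubnormal := by
  have h := (hB.quotient (K := N)).comap (QuotientGroup.mk' N)
  rwa [comap_map_eq, QuotientGroup.ker_mk', sup_comm] at h

theorem isSubnormal_sup_of_normalizes [Finite G] :
    ∀ (n : ℕ) {A B K : Subgroup G}, Nat.card K ≤ n → A ≤ K → A.IsSubnormal → B.IsSubnormal →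
      B ≤ normalizer (A : Set G) → B ≤ normalizer (K : Set G) → (K ⊔ B).IsSubnormal →
      (A ⊔ B).IsSubnormal := by
  intro n
  induction n with
  | zero => intro A B K h; exact absurd h (Nat.not_le.2 Nat.card_pos)
  | succ n ih =>
    intro A B K hc hAK hA hB hBA hBK hKB
    by_cases hAK' : A = K
    · exact hAK' ▸ hKB
    have hne : A.subgroupOf K ≠ ⊤ := fun h =>
      hAK' (le_antisymm hAK (subgroupOf_eq_top.1 h))
    obtain ⟨M, hM, hle, hlt⟩ :=
      (hA.subgroupOf (K := K)).exists_normal_and_le_and_lt_top_of_ne hne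
    set C := Subgroup.normalClosure ((A.subgroupOf K : Subgroup K) : Set K) with hC
    have hClt : C < ⊤ := lt_of_le_of_lt (normalClosure_le_normal hle) hlt
    set K' := C.map K.subtype with hK'
    have hK'K : K' ≤ K := map_subtype_le _
    have hAK'' : A ≤ K' := by
      intro a ha
      exact ⟨⟨a, hAK ha⟩, subset_normalClosure ha, rfl⟩
    have hcard : Nat.card K' < Nat.card K := by
      rw [hK', card_map_of_injective K.subtype_injective, ← card_mul_index C]
      refine lt_mul_of_one_lt_right Nat.card_pos ?_
      have h1 : C.index ≠ 1 := fun h => hClt.ne (index_eq_one.1 h)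
      have h2 : C.index ≠ 0 := index_ne_zero_of_finite
      omega
    have hBK' : B ≤ normalizer (K' : Set G) := by
      intro b hb
      have hbK : ∀ x ∈ K, b * x * b⁻¹ ∈ K := fun x hx => (mem_normalizer_iff.1 (hBK hb) x).1 hx
      let σ : K →* K :=
        { toFun := fun x => ⟨b * x * b⁻¹, hbK x x.2⟩
          map_one' := by ext; simp
          map_mul' := fun x y => by ext; simp [mul_assoc] }
      have hσ : C ≤ C.comap σ := by
        have : (C.comap σ).Normal := Normal.comap normalClosure_normal σ
        refine normalClosure_le_normal ?_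
        intro a ha
        exact subset_normalClosure ((mem_normalizer_iff.1 (hBA hb) _).1 ha)
      rw [mem_normalizer_iff_map_conj_eq]
      refine eq_of_le_of_card_ge ?_ (le_of_eq (card_map_of_injective (MulEquiv.injective _)).symm)
      rintro _ ⟨_, ⟨c, hc, rfl⟩, rfl⟩
      exact ⟨σ c, hσ hc, rfl⟩
    have hKB' : (K' ⊔ B).IsSubnormal := by
      refine Subgroup.IsSubnormal.trans (K := K ⊔ B) (sup_le_sup_right hK'K B) ?_ hKB
      rw [subgroupOf_sup (hK'K.trans le_sup_left) le_sup_right]
      have : (K'.subgroupOf (K ⊔ B)).Normal := by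
        rw [normal_subgroupOf_iff_le_normalizer (hK'K.trans le_sup_left)]
        refine sup_le ?_ hBK'
        intro k hk
        rw [mem_normalizer_iff_map_conj_eq]
        refine eq_of_le_of_card_ge ?_ (le_of_eq (card_map_of_injective (MulEquiv.injective _)).symm)
        rintro _ ⟨_, ⟨c, hc, rfl⟩, rfl⟩
        exact ⟨⟨k, hk⟩ * c * ⟨k, hk⟩⁻¹, normalClosure_normal.conj_mem c hc _, rfl⟩
      exact isSubnormal_sup_of_normal hB.subgroupOf
    exact ih (by omega) hAK'' hA hB hBA hBK' hKB'

theorem isSubnormal_iSup_of_pairwise [Finite G] {ι : Type*} [Finite ι] (f : ι → Subgroup G)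
    (hf : ∀ i, (f i).IsSubnormal)
    (hsup : ∀ A B : Subgroup G, A.IsSubnormal → B.IsSubnormal → (A ⊔ B).IsSubnormal) :
    (⨆ i, f i).IsSubnormal := by
  classical
  have := Fintype.ofFinite ι
  rw [show (⨆ i, f i) = Finset.univ.sup f by simp [Finset.sup_eq_iSup]]
  generalize (Finset.univ : Finset ι) = s
  induction s using Finset.induction_on with
  | empty => simp
  | insert a s ha ih => rw [Finset.sup_insert]; exact hsup _ _ (hf a) ih

/-- Wielandt: the join of two subnormal subgroups of a finite group is subnormal. -/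
theorem isSubnormal_sup [Finite G] {A B : Subgroup G} (hA : A.IsSubnormal) (hB : B.IsSubnormal) :
    (A ⊔ B).IsSubnormal := by
  have main : ∀ (n : ℕ) {X : Type u} [Group X] [Finite X], Nat.card X ≤ n → ∀ A B : Subgroup X,
      A.IsSubnormal → B.IsSubnormal → (A ⊔ B).IsSubnormal := by
    intro n
    induction n with
    | zero => intro X _ _ h; exact absurd h (Nat.not_le.2 Nat.card_pos)
    | succ n ih =>
      intro X _ _ hc A B hA hB
      by_cases hAt : A = ⊤
      · simp [hAt]
      obtain ⟨N, hN, hAN, hNt⟩ := hA.exists_normal_and_le_and_lt_top_of_ne hAt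
      set C := ⨆ b : B, (MulAut.conj (b : X) • A) with hC
      have hconjN : ∀ b : B, MulAut.conj (b : X) • A ≤ N := by
        intro b
        rintro _ ⟨a, ha, rfl⟩
        exact hN.conj_mem a (hAN ha) b
      have hlt : Nat.card N < Nat.card X := by
        rw [← card_mul_index N]
        refine lt_mul_of_one_lt_right Nat.card_pos ?_
        have h1 : N.index ≠ 1 := fun h => hNt.ne (index_eq_one.1 h)
        have h2 : N.index ≠ 0 := index_ne_zero_of_finite
        omega
      have hCs : C.IsSubnormal := by
        have h1 : (⨆ b : B, (MulAut.conj (b : X) • A).subgroupOf N).IsSubnormal :=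
          isSubnormal_iSup_of_pairwise _ (fun b => (hA.smul (MulAut.conj (b : X))).subgroupOf)
            (ih (X := N) (by omega))
        have h2 := h1.trans' hN.isSubnormal
        rw [Subgroup.map_iSup] at h2
        simp only [subgroupOf_map_subtype, inf_eq_left.2 (hconjN _)] at h2
        exact h2
      have hAC : A ≤ C := by
        refine le_iSup_of_le 1 ?_
        simp
      have hBC : B ≤ normalizer (C : Set X) := by
        intro b hb
        rw [mem_normalizer_iff_map_conj_eq]
        refine eq_of_le_of_card_ge ?_ (le_of_eq (card_map_of_injective (MulEquiv.injective _)).symm)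
        rw [hC, Subgroup.map_iSup]
        refine iSup_le fun c => le_iSup_of_le (⟨b, hb⟩ * c) ?_
        simp [mul_smul, Subgroup.pointwise_smul_def, Subgroup.map_map]
        rfl
      have hsupC : A ⊔ B = C ⊔ B := by
        refine le_antisymm (sup_le_sup_right hAC B) (sup_le ?_ le_sup_right)
        refine iSup_le fun b => ?_
        rintro _ ⟨a, ha, rfl⟩
        simp only [MulDistribMulAction.toMonoidEnd_apply, MulDistribMulAction.toMonoidHom_apply,
          MulAut.smul_def, MulAut.conj_apply]
        exact mul_mem (mul_mem (mem_sup_right b.2) (mem_sup_left ha)) (inv_mem (mem_sup_right b.2))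
      rw [hsupC]
      exact isSubnormal_sup_of_normalizes _ (K := ⊤) le_rfl le_top hCs hB hBC
        (by rw [normalizer_eq_top_iff.2 inferInstance]; exact le_top) (by simp)
  exact main _ le_rfl A B hA hB

theorem isSubnormal_sSup [Finite G] {S : Set (Subgroup G)} (hS : ∀ U ∈ S, U.IsSubnormal) :
    (sSup S).IsSubnormal := by
  rw [sSup_eq_iSup']
  exact isSubnormal_iSup_of_pairwise _ (fun U => hS U.1 U.2) fun _ _ => isSubnormal_sup

/-- A proper subfamily of a conjugation invariant family of subnormal subgroups: some further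
member normalizes the join. -/
theorem exists_normalizes_sSup [Finite G] (S S₀ : Set (Subgroup G)) (hS : ∀ U ∈ S, U.IsSubnormal)
    (hconj : ∀ U ∈ S, ∀ g : G, MulAut.conj g • U ∈ S) (h₀ : S₀ ⊂ S) :
    ∃ X ∈ S, X ∉ S₀ ∧ X ≤ normalizer ((sSup S₀ : Subgroup G) : Set G) := by
  set T := sSup S₀ with hT
  by_contra hno
  push Not at hno
  have hTs : T.IsSubnormal := isSubnormal_sSup fun U hU => hS U (h₀.subset hU)
  obtain ⟨U, hU, hU0⟩ := Set.exists_of_ssubset h₀
  have hTn : normalizer (T : Set G) ≠ ⊤ := fun h => hno U hU hU0 (h ▸ le_top)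
  -- a chain member containing `T` normally but not normalizing it
  have key : ∀ K : Subgroup G, K.IsSubnormal → T ≤ K → K ≤ normalizer (T : Set G) →
      ∃ (K' : Subgroup G) (g : G), T ≤ K' ∧ K' ≤ normalizer (T : Set G) ∧
        g ∉ normalizer (T : Set G) ∧ ∀ x ∈ K', g * x * g⁻¹ ∈ K' := by
    intro K hK
    induction hK with
    | top => intro _ h; exact absurd (top_le_iff.1 h) hTn
    | step A B hle hB hn ih =>
      intro hTA hAN
      by_cases h : B ≤ normalizer (T : Set G)
      · exact ih (hTA.trans hle) h
      · obtain ⟨g, hg, hgN⟩ := SetLike.not_le_iff_exists.1 h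
        rw [normal_subgroupOf_iff_le_normalizer hle] at hn
        exact ⟨A, g, hTA, hAN, hgN, fun x hx => (mem_normalizer_iff.1 (hn hg) x).1 hx⟩
  obtain ⟨K, g, hTK, hKN, hgN, hgK⟩ := key T hTs le_rfl le_normalizer
  have hconjle : ∀ V ∈ S₀, MulAut.conj g • V ≤ T := by
    intro V hV
    by_cases hmem : MulAut.conj g • V ∈ S₀
    · exact le_sSup hmem
    · exfalso
      refine hno _ (hconj V (h₀.subset hV) g) hmem (le_trans ?_ hKN)
      rintro _ ⟨v, hv, rfl⟩
      exact hgK v (hTK (le_sSup hV hv))
  apply hgN
  rw [mem_normalizer_iff_map_conj_eq]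
  refine eq_of_le_of_card_ge ?_ (le_of_eq (card_map_of_injective (MulEquiv.injective _)).symm)
  rw [hT, map_le_iff_le_comap]
  refine sSup_le fun V hV => ?_
  intro v hv
  exact hconjle V hV ⟨v, hv, rfl⟩

end Cfsg.Agent.H30
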