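import Cfsg.Agent.H30.PSLPrimeTable
import Cfsg.Agent.Linear.Order
import Cfsg.Agent.Linear.Simple

set_option autoImplicit false

/-! Simple groups of order `p (p² - 1) / 2` for `p = 7, 11, 13`. -/

namespace Cfsg.Agent.H30.PSLPrime

open Subgroup
open scoped Pointwise

universe u

variable {p : ℕ}

/-- The standard three generators, as maps. -/
def IsStd (p h g₀ : ℕ) (σ : Equiv.Perm (Option (ZMod p))) : Prop :=
  (σ : Option (ZMod p) → Option (ZMod p)) = aff 1 1 ∨
    (σ : Option (ZMod p) → Option (ZMod p)) = aff (g₀ : ZMod p) 0 ∨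
      (σ : Option (ZMod p) → Option (ZMod p)) = inv₀ h

theorem aff_comp (a b a' b' : ZMod p) (x : Option (ZMod p)) :
    aff a b (aff a' b' x) = aff (a * a') (a * b' + b) x := by
  cases x <;> simp [aff]; ring

theorem aff_one_zero (x : Option (ZMod p)) : aff (1 : ZMod p) 0 x = x := by
  cases x <;> simp [aff]

/-- Numerical facts about the prime. -/
structure Data (p h g₀ n skip : ℕ) : Prop where
  card_eq : p = 2 * h + 1
  hpos : 1 < h
  chk : ∀ [NeZero p], checkAll p h g₀ skip = true
  squares : ∀ a : ZMod p, a ^ h = 1 → ∃ i < h, a = (g₀ : ZMod p) ^ i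
  g₀_pow : (g₀ : ZMod p) ^ h = 1
  g₀_ne : (g₀ : ZMod p) ≠ 1
  nonsquares : ∀ x : ZMod p, x ≠ 0 → x ^ h ≠ 1 → ∃ j < h, x = (n : ZMod p) * (g₀ : ZMod p) ^ j
  n_ne : (n : ZMod p) ≠ 0
  skip_ok : h ≤ skip ∨ (skip = 1 ∧ h.Prime ∧ ¬ h ∣ p * (p + 1))

theorem exists_range_eq [Fact p.Prime] {h g₀ n skip : ℕ} (hd : Data p h g₀ n skip) {G : Type u}
    [Group G] [Finite G] [IsSimpleGroup G] (hcard : Nat.card G = p * h * (p + 1))
    (hnp : Nat.card (Sylow p G) = p + 1) :
    ∃ φ : G →* Equiv.Perm (Option (ZMod p)), Function.Injective φ ∧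
      φ.range = closure {σ | IsStd p h g₀ σ} := by
  classical
  have hp : p.Prime := Fact.out
  let P : Sylow p G := default
  have hPc : Nat.card (P : Subgroup G) = p := by
    have h1 : ¬ p ∣ h := fun hh => by
      have := Nat.le_of_dvd (by have := hd.hpos; omega) hh
      have := hd.card_eq; omega
    have h2 : ¬ p ∣ p + 1 := fun hh => hp.ne_one
      (Nat.eq_one_of_dvd_one ((Nat.dvd_add_right dvd_rfl).1 hh))
    have hh0 : h ≠ 0 := by have := hd.hpos; omega
    rw [show Nat.card (P : Subgroup G) = Nat.card P from rfl, P.card_eq_multiplicity, hcard,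
      Nat.factorization_mul (mul_ne_zero hp.ne_zero hh0) (by omega),
      Nat.factorization_mul hp.ne_zero hh0, Finsupp.add_apply, Finsupp.add_apply,
      hp.factorization_self, Nat.factorization_eq_zero_of_not_dvd h1,
      Nat.factorization_eq_zero_of_not_dvd h2]
    simp
  obtain ⟨t₀, ht₀⟩ := exists_prime_orderOf_dvd_card' (G := (P : Subgroup G)) p (by rw [hPc])
  obtain ⟨t, ht⟩ : ∃ t : G, t = (t₀ : G) := ⟨_, rfl⟩
  have htP : t ∈ (P : Subgroup G) := ht ▸ t₀.2
  have hto : orderOf t = p := by rw [ht, Subgroup.orderOf_coe, ht₀]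
  have hPt : zpowers t = (P : Subgroup G) :=
    eq_of_le_of_card_ge (zpowers_le.2 htP) (by rw [hPc, Nat.card_zpowers, hto])
  have huniq : ∀ Q : Sylow p G, (P : Subgroup G) ≤ normalizer ((Q : Subgroup G) : Set G) → Q = P := by
    intro Q hQ
    have hsup := Q.is_maximal' (P.isPGroup'.to_sup_of_normal_right' Q.isPGroup' hQ) le_sup_right
    have hle : (P : Subgroup G) ≤ Q := le_sup_left.trans hsup.le
    exact Sylow.ext (P.is_maximal' Q.isPGroup' hle)
  obtain ⟨Q₀, hQ₀⟩ : ∃ Q : Sylow p G, Q ≠ P := by
    by_contra hh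
    push Not at hh
    have : Subsingleton (Sylow p G) := ⟨fun a b => (hh a).trans (hh b).symm⟩
    have h1 := Finite.card_le_one_iff_subsingleton.2 this
    have := hp.one_lt
    omega
  let lab : Option (ZMod p) → Sylow p G
    | none => P
    | some j => t ^ j.val • Q₀
  have htpow : ∀ j : ZMod p, t ^ j.val ∈ (P : Subgroup G) := fun j => pow_mem htP _
  have hfix : ∀ x ∈ (P : Subgroup G), x • P = P := fun x hx =>
    Sylow.smul_eq_iff_mem_normalizer.2 (le_normalizer hx)
  have hlab : Function.Injective lab := by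
    intro a b hab
    cases a with
    | none =>
      cases b with
      | none => rfl
      | some j =>
        exfalso; apply hQ₀
        have h1 : (t ^ j.val)⁻¹ • P = Q₀ := inv_smul_eq_iff.2 hab
        rw [← h1, hfix _ (inv_mem (htpow j))]
    | some i =>
      cases b with
      | none =>
        exfalso; apply hQ₀
        have h1 : (t ^ i.val)⁻¹ • P = Q₀ := inv_smul_eq_iff.2 hab.symm
        rw [← h1, hfix _ (inv_mem (htpow i))]
      | some j =>
        by_contra hne
        apply hQ₀
        refine huniq Q₀ ?_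
        have h1 : ((t ^ i.val)⁻¹ * t ^ j.val) • Q₀ = Q₀ := by
          rw [mul_smul, inv_smul_eq_iff]; exact hab.symm
        have h2 : (t ^ i.val)⁻¹ * t ^ j.val ≠ 1 := fun e => hne (by
          rw [inv_mul_eq_one] at e
          have := pow_injOn_Iio_orderOf (x := t) (by simp [hto, ZMod.val_lt i])
            (by simp [hto, ZMod.val_lt j]) e
          rw [ZMod.val_injective p this])
        have h3 : zpowers ((t ^ i.val)⁻¹ * t ^ j.val) = (P : Subgroup G) := by
          have hle : zpowers ((t ^ i.val)⁻¹ * t ^ j.val) ≤ (P : Subgroup G) :=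
            zpowers_le.2 (mul_mem (inv_mem (htpow i)) (htpow j))
          refine eq_of_le_of_card_ge hle ?_
          rw [hPc]
          rcases (Nat.dvd_prime hp).1 (hPc ▸ card_dvd_of_le hle) with h4 | h4
          · exact absurd (zpowers_eq_bot.1 (card_eq_one.1 h4)) h2
          · exact h4.ge
        rw [← h3, zpowers_le]
        exact Sylow.smul_eq_iff_mem_normalizer.1 h1
  have hbij : Function.Bijective lab := by
    refine (Nat.bijective_iff_injective_and_card lab).2 ⟨hlab, ?_⟩
    rw [hnp, Finite.card_option, Nat.card_zmod]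
  let E : Option (ZMod p) ≃ Sylow p G := Equiv.ofBijective lab hbij
  let φ : G →* Equiv.Perm (Option (ZMod p)) :=
    (E.symm.permCongrHom.toMonoidHom).comp (MulAction.toPermHom G (Sylow p G))
  have hφ : ∀ g x, lab (φ g x) = g • lab x := fun g x => by
    show E (E.symm (g • E x)) = g • E x
    rw [Equiv.apply_symm_apply]
  have hinj : Function.Injective φ := by
    rw [← MonoidHom.ker_eq_bot_iff]
    refine (φ.normal_ker.eq_bot_or_eq_top).resolve_right fun htop => hQ₀ ?_
    refine huniq Q₀ fun x hx => Sylow.smul_eq_iff_mem_normalizer.1 ?_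
    have h1 : φ x = 1 := MonoidHom.mem_ker.1 (htop ▸ mem_top x)
    have h2 := hφ x (E.symm Q₀)
    rw [h1, Equiv.Perm.one_apply] at h2
    have h3 : lab (E.symm Q₀) = Q₀ := E.apply_symm_apply Q₀
    rw [h3] at h2; exact h2.symm
  have htn : t ^ p = 1 := hto ▸ pow_orderOf_eq_one t
  have hφt : ∀ x, φ t x = aff 1 1 x := by
    intro x
    apply hlab
    rw [hφ]
    cases x with
    | none => exact hfix t htP
    | some j =>
      show t • (t ^ j.val • Q₀) = lab (some (1 * j + 1))
      rw [← mul_smul, ← pow_succ', one_mul]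
      show _ = t ^ (j + 1).val • Q₀
      rw [ZMod.val_add, ZMod.val_one, pow_eq_pow_mod _ htn]
  have hφtk : ∀ k : ℕ, ∀ x, φ (t ^ k) x = aff 1 (k : ZMod p) x := by
    intro k
    induction k with
    | zero => intro x; simp [aff_one_zero]
    | succ k ih =>
      intro x
      rw [pow_succ', map_mul, Equiv.Perm.mul_apply, ih, hφt, aff_comp]
      simp
  -- elements fixing infinity
  have hnone : ∀ g, φ g none = none ↔ g ∈ normalizer ((P : Subgroup G) : Set G) := by
    intro g
    rw [← hlab.eq_iff, hφ]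
    exact Sylow.smul_eq_iff_mem_normalizer
  have haff : ∀ g, φ g none = none → ∃ k b : ZMod p, (∀ x, φ g x = aff k b x) ∧
      g * t * g⁻¹ = t ^ k.val := by
    intro g hg
    have h1 := ((mem_normalizer_iff.1 ((hnone g).1 hg)) t).1 htP
    rw [← hPt, mem_zpowers_iff_mem_range_orderOf, Finset.mem_image] at h1
    obtain ⟨k, hk, hk'⟩ := h1
    rw [Finset.mem_range, hto] at hk
    obtain ⟨b, hb⟩ : ∃ b, φ g (some 0) = some b := by
      cases hh : φ g (some 0) with
      | none => exact absurd ((φ g).injective (hh.trans hg.symm)) (by simp)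
      | some b => exact ⟨b, rfl⟩
    refine ⟨k, b, ?_, by rw [ZMod.val_cast_of_lt hk, hk']⟩
    have hrec : ∀ m : ℕ, φ g (some (m : ZMod p)) = some ((k : ZMod p) * m + b) := by
      intro m
      induction m with
      | zero => simp [hb]
      | succ m ih =>
        have h2 : some ((m + 1 : ℕ) : ZMod p) = φ t (some (m : ZMod p)) := by
          rw [hφt]; simp [aff]
        have h3 : g * t = t ^ k * g := by rw [hk']; group
        rw [h2, ← Equiv.Perm.mul_apply, ← map_mul, h3, map_mul, Equiv.Perm.mul_apply, ih, hφtk]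
        simp [aff]; ring
    intro x
    cases x with
    | none => simpa [aff] using hg
    | some x => simpa [aff] using hrec x.val
  set N := normalizer ((P : Subgroup G) : Set G) with hN
  have hNc : Nat.card N = p * h := by
    have h1 := card_mul_index N
    have h2 : N.index = p + 1 := by rw [← hnp, Sylow.card_eq_index_normalizer P]; rfl
    rw [h2, hcard] at h1
    exact Nat.eq_of_mul_eq_mul_right (Nat.succ_pos p) h1
  -- multipliers
  have hmul : ∀ g ∈ N, ∃ k : (ZMod p)ˣ, ∃ b, ∀ x, φ g x = aff (k : ZMod p) b x := by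
    intro g hg
    obtain ⟨k, b, hkb, -⟩ := haff g ((hnone g).2 hg)
    have hk : k ≠ 0 := by
      rintro rfl
      have h1 := (φ g).injective (a₁ := some 0) (a₂ := some 1) (by simp [hkb, aff])
      exact zero_ne_one (Option.some_injective _ h1)
    exact ⟨Units.mk0 k hk, b, hkb⟩
  choose μ β hμ using hmul
  have hμu : ∀ g (hg : g ∈ N) (a b : ZMod p), (∀ x, φ g x = aff a b x) → (μ g hg : ZMod p) = a := by
    intro g hg a b hab
    have h0 := (hμ g hg (some 0)).symm.trans (hab (some 0))
    have h1 := (hμ g hg (some 1)).symm.trans (hab (some 1))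
    simp [aff] at h0 h1
    rw [h0] at h1
    exact add_right_cancel h1
  let μ' : N →* (ZMod p)ˣ :=
    MonoidHom.mk' (fun g => μ g g.2) fun a b => by
      apply Units.ext
      rw [Units.val_mul]
      refine hμu _ _ _ ((μ a a.2 : ZMod p) * β b b.2 + β a a.2) fun x => ?_
      rw [Subgroup.coe_mul, map_mul, Equiv.Perm.mul_apply, hμ b b.2, hμ a a.2, aff_comp]
  have hker : Nat.card μ'.ker ≤ p := by
    refine le_of_le_of_eq ?_ hPc
    refine Nat.card_le_card_of_injective (fun g => (⟨((g : N) : G), ?_⟩ : (P : Subgroup G))) ?_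
    · have hg1 : μ ((g : N) : G) (g : N).2 = 1 := g.2
      have heq : ((g : N) : G) = t ^ (β ((g : N) : G) (g : N).2).val := by
        apply hinj
        ext1 x
        rw [hμ _ (g : N).2, hφtk, hg1, ZMod.natCast_zmod_val]
        simp
      rw [heq]; exact pow_mem htP _
    · intro a b hab
      exact Subtype.ext (Subtype.ext (congrArg (fun w : (P : Subgroup G) => (w : G)) hab))
  have hrange : h ≤ Nat.card μ'.range := by
    have h1 := card_mul_index μ'.ker
    rw [index_ker, hNc] at h1
    by_contra hlt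
    rw [not_le] at hlt
    have h2 := Nat.mul_le_mul hker (le_refl (Nat.card μ'.range))
    have h3 := Nat.mul_lt_mul_of_pos_left hlt hp.pos
    omega
  -- every multiplier is a square, and all squares occur
  have hsub : μ'.range ≤ (powMonoidHom h : (ZMod p)ˣ →* (ZMod p)ˣ).ker := by
    rintro _ ⟨g, rfl⟩
    rw [MonoidHom.mem_ker, powMonoidHom_apply]
    have h1 : Nat.card μ'.range ∣ p * h := hNc ▸ card_range_dvd μ'
    have h2 : Nat.card μ'.range ∣ p - 1 := by
      have := card_subgroup_dvd_card μ'.range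
      rwa [Nat.card_eq_fintype_card (α := (ZMod p)ˣ), ZMod.card_units] at this
    have h3 : Nat.card μ'.range ∣ h := by
      refine (Nat.Coprime.dvd_of_dvd_mul_left ?_ h1)
      refine Nat.Coprime.coprime_dvd_left h2 ((hp.coprime_iff_not_dvd.2 fun hh => ?_).symm)
      have := hd.card_eq
      have := Nat.le_of_dvd (by have := hd.hpos; omega) hh
      omega
    obtain ⟨m, hm⟩ := h3
    have h4 : ((⟨μ' g, g, rfl⟩ : μ'.range) : (ZMod p)ˣ) ^ Nat.card μ'.range = 1 := by
      rw [← SubmonoidClass.coe_pow, pow_card_eq_one', OneMemClass.coe_one]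
    rw [hm, pow_mul, show μ' g ^ Nat.card μ'.range = 1 from h4, one_pow]
  have hsq : ∀ g, φ g none = none →
      ∃ (a b : ZMod p), a ^ h = 1 ∧ ∀ x, φ g x = aff a b x := by
    intro g hg
    have hgN := (hnone g).1 hg
    refine ⟨μ g hgN, β g hgN, ?_, hμ g hgN⟩
    have h1 := hsub ⟨⟨g, hgN⟩, rfl⟩
    rw [MonoidHom.mem_ker, powMonoidHom_apply] at h1
    exact congrArg Units.val h1
  obtain ⟨d, hd'⟩ : ∃ d : G, ∀ x, φ d x = aff (g₀ : ZMod p) 0 x := by
    have hne : (g₀ : ZMod p) ≠ 0 := fun h0 => by
      have := hd.g₀_pow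
      rw [h0, zero_pow (by have := hd.hpos; omega)] at this
      exact zero_ne_one this
    have hmem : Units.mk0 (g₀ : ZMod p) hne ∈ μ'.range := by
      have heq : μ'.range = (powMonoidHom h : (ZMod p)ˣ →* (ZMod p)ˣ).ker :=
        eq_of_le_of_card_ge hsub ((Nat.le_of_dvd (by have := hd.hpos; omega)
          (show Nat.card (powMonoidHom h : (ZMod p)ˣ →* (ZMod p)ˣ).ker ∣ h from by
            rw [IsCyclic.card_powMonoidHom_ker]; exact Nat.gcd_dvd_right _ _)).trans hrange)
      rw [heq, MonoidHom.mem_ker, powMonoidHom_apply]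
      exact Units.ext (by simpa using hd.g₀_pow)
    obtain ⟨g, hg⟩ := hmem
    have hg' : (μ (g : G) g.2 : ZMod p) = g₀ := by
      have := congrArg Units.val hg
      simpa [μ'] using this
    refine ⟨(t ^ (β (g : G) g.2).val)⁻¹ * g, fun x => ?_⟩
    rw [map_mul, Equiv.Perm.mul_apply, map_inv, Equiv.Perm.inv_eq_iff_eq, hφtk, hμ _ g.2,
      ZMod.natCast_zmod_val, aff_comp, hg']
    simp
  have hdk : ∀ k : ℕ, ∀ x, φ (d ^ k) x = aff ((g₀ : ZMod p) ^ k) 0 x := by
    intro k
    induction k with
    | zero => intro x; simp [aff_one_zero]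
    | succ k ih =>
      intro x
      rw [pow_succ', map_mul, Equiv.Perm.mul_apply, ih, hd', aff_comp]
      simp [pow_succ']
  -- an element interchanging zero and infinity
  obtain ⟨w, hw0, hwinf⟩ : ∃ w : G, φ w none = some 0 ∧ φ w (some 0) = none := by
    obtain ⟨g, hg⟩ := MulAction.exists_smul_eq G P Q₀
    have hg0 : φ g none = some 0 := by
      apply hlab; rw [hφ]
      show g • P = t ^ (0 : ZMod p).val • Q₀
      simp [hg]
    obtain ⟨y, hy⟩ := (φ g).surjective none
    cases y with
    | none => rw [hg0] at hy; simp at hy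
    | some j =>
      refine ⟨g * t ^ j.val, ?_, ?_⟩
      · rw [map_mul, Equiv.Perm.mul_apply, hφtk]; exact hg0
      · rw [map_mul, Equiv.Perm.mul_apply, hφtk]; simp [aff, hy]
  have hwinv : (φ w)⁻¹ (some 0) = none ∧ (φ w)⁻¹ none = some 0 :=
    ⟨by rw [Equiv.Perm.inv_eq_iff_eq, hw0], by rw [Equiv.Perm.inv_eq_iff_eq, hwinf]⟩
  have hzero : ∀ g, φ g none = none → φ g (some 0) = some 0 →
      ∃ j < h, g = d ^ j := by
    intro g h1 h2
    obtain ⟨a, b, ha, hab⟩ := hsq g h1
    have hb : b = 0 := by
      have := hab (some 0)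
      rw [h2] at this
      simpa [aff] using this.symm
    obtain ⟨j, hj, rfl⟩ := hd.squares a ha
    refine ⟨j, hj, hinj ?_⟩
    ext1 x
    rw [hab, hdk, hb]
  obtain ⟨i, hi, hwd⟩ := hzero (w * d * w⁻¹)
    (by simp only [map_mul, map_inv, Equiv.Perm.mul_apply, hwinv.2, hd']; simp [aff, hwinf])
    (by simp only [map_mul, map_inv, Equiv.Perm.mul_apply, hwinv.1, hd']; simp [aff, hw0])
  have hiskip : i ≠ skip := by
    rintro rfl
    rcases hd.skip_ok with hh | ⟨h1, hhp, hhd⟩
    · omega
    subst h1
    rw [pow_one] at hwd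
    have hwd' : w * d = d * w := by rw [mul_inv_eq_iff_eq_mul] at hwd; exact hwd
    have hdh : orderOf d = h := by
      have := Fact.mk hhp
      refine orderOf_eq_prime (hinj ?_) fun h1 => hd.g₀_ne ?_
      · ext1 x; rw [hdk, hd.g₀_pow, map_one, aff_one_zero]; rfl
      · have := hd' (some 1)
        rw [h1, map_one] at this
        simpa [aff] using this.symm
    have hD : IsPGroup h (zpowers d) :=
      IsPGroup.of_card (n := 1) (by rw [Nat.card_zpowers, hdh, pow_one])
    have := Fact.mk hhp
    have hidx : (zpowers d).index = p * (p + 1) := by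
      have h2 := card_mul_index (zpowers d)
      rw [Nat.card_zpowers, hdh, hcard] at h2
      apply Nat.eq_of_mul_eq_mul_left hhp.pos
      rw [h2]; ring
    let S : Sylow h G := hD.toSylow (by rwa [hidx])
    have hS : (S : Subgroup G) = zpowers d := rfl
    have hNC : normalizer ((S : Subgroup G) : Set G) ≤ centralizer ((S : Subgroup G) : Set G) := by
      rw [hS]
      intro g hg
      have hfixd : ∀ x, φ d x = x → x = none ∨ x = some 0 := by
        intro x hx
        cases x with
        | none => exact Or.inl rfl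
        | some x =>
          right
          rw [hd'] at hx
          simp [aff] at hx
          by_contra hne
          exact hd.g₀_ne (mul_right_cancel₀ (fun h0 => hne (by rw [h0]))
            (hx.trans (one_mul x).symm))
      have hperm : ∀ x, (x = none ∨ x = some 0) → φ g x = none ∨ φ g x = some 0 := by
        intro x hx
        refine hfixd _ ?_
        have h2 : g⁻¹ * d * g ∈ zpowers d := ((mem_normalizer_iff''.1 hg) d).1 (mem_zpowers d)
        rw [mem_zpowers_iff_mem_range_orderOf, Finset.mem_image] at h2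
        obtain ⟨k, -, hk⟩ := h2
        have h3 : d * g = g * d ^ k := by rw [hk]; group
        rw [← Equiv.Perm.mul_apply, ← map_mul, h3, map_mul, Equiv.Perm.mul_apply, hdk]
        rcases hx with rfl | rfl <;> simp [aff]
      rw [zpowers_eq_closure, centralizer_closure, mem_centralizer_singleton_iff]
      rcases hperm none (Or.inl rfl) with h1 | h1
      · have h2 : φ g (some 0) = some 0 := (hperm _ (Or.inr rfl)).resolve_left fun hh =>
          absurd ((φ g).injective (hh.trans h1.symm)) (by simp)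
        obtain ⟨j, -, rfl⟩ := hzero g h1 h2
        exact (Commute.pow_self d j).eq
      · have h2 : φ g (some 0) = none := (hperm _ (Or.inr rfl)).resolve_right fun hh =>
          absurd ((φ g).injective (hh.trans h1.symm)) (by simp)
        obtain ⟨j, -, hj⟩ := hzero (w * g)
          (by rw [map_mul, Equiv.Perm.mul_apply, h1, hwinf])
          (by rw [map_mul, Equiv.Perm.mul_apply, h2, hw0])
        have hgj : g = w⁻¹ * d ^ j := by rw [← hj]; group
        rw [hgj]
        exact ((Commute.inv_left (hwd' : Commute w d)).mul_left (Commute.pow_self d j)).eq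
    have hc := MonoidHom.ker_transferSylow_isComplement' S hNC
    rcases (MonoidHom.normal_ker (MonoidHom.transferSylow S hNC)).eq_bot_or_eq_top with h2 | h2
    · rw [h2] at hc
      have h3 : zpowers d = ⊤ := hS ▸ isComplement'_bot_left.1 hc
      rw [h3, index_top] at hidx
      have := hp.two_le
      nlinarith
    · rw [h2] at hc
      have h3 : zpowers d = ⊥ := hS ▸ isComplement'_top_left.1 hc
      rw [zpowers_eq_bot] at h3
      rw [h3, orderOf_one] at hdh
      exact hhp.ne_one hdh.symm
  -- the shape of `w`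
  have hwsome : ∀ x : ZMod p, x ≠ 0 → ∃ y : ZMod p, y ≠ 0 ∧ φ w (some x) = some y := by
    intro x hx
    cases hh : φ w (some x) with
    | none => exact absurd (Option.some_injective _ ((φ w).injective (hh.trans hwinf.symm))) hx
    | some y =>
      exact ⟨y, fun h0 => absurd ((φ w).injective ((h0 ▸ hh).trans hw0.symm)) (by simp), rfl⟩
  obtain ⟨c, hc, hwc⟩ := hwsome 1 one_ne_zero
  obtain ⟨e', he', hwe⟩ := hwsome _ hd.n_ne
  have hwmul : ∀ j : ℕ, ∀ x y : ZMod p, φ w (some x) = some y →
      φ w (some ((g₀ : ZMod p) ^ j * x)) = some (((g₀ : ZMod p) ^ j) ^ i * y) := by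
    intro j x y hxy
    have h1 : w * d ^ j = (d ^ i) ^ j * w := by rw [← hwd, conj_pow]; group
    have h2 : some ((g₀ : ZMod p) ^ j * x) = φ (d ^ j) (some x) := by rw [hdk]; simp [aff]
    rw [h2, ← Equiv.Perm.mul_apply, ← map_mul, h1, map_mul, Equiv.Perm.mul_apply, hxy, ← pow_mul,
      hdk, mul_comm i j, pow_mul]
    simp [aff]
  set e := e' * ((n : ZMod p) ^ i)⁻¹ with he
  have he0 : e ≠ 0 := mul_ne_zero he' (inv_ne_zero (pow_ne_zero _ hd.n_ne))
  have hwc' : ∀ x, φ w x = cand h i c e x := by
    intro x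
    cases x with
    | none => simpa [cand] using hw0
    | some x =>
      by_cases hx0 : x = 0
      · subst hx0; simpa [cand] using hwinf
      by_cases hxs : x ^ h = 1
      · obtain ⟨j, -, rfl⟩ := hd.squares x hxs
        have := hwmul j 1 c hwc
        rw [mul_one] at this
        rw [this]
        simp only [cand, if_neg hx0, if_pos hxs]
        rw [mul_comm]
      · obtain ⟨j, -, rfl⟩ := hd.nonsquares x hx0 hxs
        rw [mul_comm (n : ZMod p), hwmul j _ e' hwe]
        rw [mul_comm ((g₀ : ZMod p) ^ j) (n : ZMod p)]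
        simp only [cand, if_neg hx0, if_neg hxs]
        simp only [mul_pow, he]
        have hni := pow_ne_zero i hd.n_ne
        congr 1
        field_simp
  have hok : okCand h i c e = true := by
    rw [okCand, Bool.and_eq_true]
    constructor
    · obtain ⟨a, b, ha, hab⟩ := hsq (w * w) (by rw [map_mul, Equiv.Perm.mul_apply, hw0, hwinf])
      refine isAff_of (b := b) ha fun x => ?_
      rw [← hab, map_mul, Equiv.Perm.mul_apply, hwc', hwc']
    · have hword : ∀ x, φ (w * (t ^ c.val)⁻¹ * w * t * w) x = word (cand h i c e) c x := by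
        intro x
        have hinv : ∀ y, (φ (t ^ c.val))⁻¹ y = aff 1 (-c) y := fun y => by
          rw [Equiv.Perm.inv_eq_iff_eq, hφtk, aff_comp, ZMod.natCast_zmod_val]
          simp [aff_one_zero]
        simp only [map_mul, map_inv, Equiv.Perm.mul_apply, hinv, hφt, hwc', word]
      have hfix' : φ (w * (t ^ c.val)⁻¹ * w * t * w) none = none := by
        rw [hword]
        simp [word, cand, aff]
      obtain ⟨a, b, ha, hab⟩ := hsq _ hfix'
      exact isAff_of (b := b) ha fun x => by rw [← hword, hab]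
  obtain ⟨j, hj, hgood⟩ := exists_mul_inv₀ hd.chk hi hiskip hc he0 hok
  obtain ⟨w₀, hw₀⟩ : ∃ w₀ : G, ∀ x, φ w₀ x = inv₀ h x := by
    refine ⟨(d ^ j)⁻¹ * w, fun x => ?_⟩
    rw [map_mul, Equiv.Perm.mul_apply, map_inv, Equiv.Perm.inv_eq_iff_eq, hdk, hwc', hgood]
  refine ⟨φ, hinj, le_antisymm ?_ ((closure_le _).2 ?_)⟩
  · rintro _ ⟨g, rfl⟩
    set K := closure {σ | IsStd p h g₀ σ}
    have htK : φ t ∈ K := subset_closure (Or.inl (funext hφt))
    have hdK : φ d ∈ K := subset_closure (Or.inr (Or.inl (funext hd')))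
    have hwK : φ w₀ ∈ K := subset_closure (Or.inr (Or.inr (funext hw₀)))
    have hNK : ∀ g, φ g none = none → φ g ∈ K := by
      intro g hg
      obtain ⟨a, b, ha, hab⟩ := hsq g hg
      obtain ⟨k, -, rfl⟩ := hd.squares a ha
      have : φ g = φ t ^ b.val * φ d ^ k := by
        rw [← map_pow, ← map_pow]
        ext1 x
        rw [Equiv.Perm.mul_apply, hφtk, hdk, hab, aff_comp, ZMod.natCast_zmod_val]
        simp
      rw [this]
      exact mul_mem (pow_mem htK _) (pow_mem hdK _)
    cases hh : φ g none with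
    | none => exact hNK g hh
    | some y =>
      have h1 : φ (w₀ * (t ^ y.val)⁻¹ * g) none = none := by
        simp only [map_mul, map_inv, Equiv.Perm.mul_apply, hh]
        have : (φ (t ^ y.val))⁻¹ (some y) = some 0 := by
          rw [Equiv.Perm.inv_eq_iff_eq, hφtk]; simp [aff]
        rw [this, hw₀]; simp [inv₀, cand]
      have h2 := hNK _ h1
      have h3 : φ g = φ (t ^ y.val) * (φ w₀)⁻¹ * φ (w₀ * (t ^ y.val)⁻¹ * g) := by
        simp [mul_assoc]
      rw [h3]
      exact mul_mem (mul_mem (by rw [map_pow]; exact pow_mem htK _) (inv_mem hwK)) h2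
  · rintro σ (hσ | hσ | hσ)
    · exact ⟨t, Equiv.ext fun x => by rw [hφt, hσ]⟩
    · exact ⟨d, Equiv.ext fun x => by rw [hd', hσ]⟩
    · exact ⟨w₀, Equiv.ext fun x => by rw [hw₀, hσ]⟩

theorem data_seven : Data 7 3 2 3 1 :=
  ⟨rfl, by norm_num, fun {_} => checkAll_seven, by decide, by decide, by decide, by decide,
    by decide, Or.inr ⟨rfl, by norm_num, by norm_num⟩⟩

theorem data_eleven : Data 11 5 4 2 5 :=
  ⟨rfl, by norm_num, fun {_} => checkAll_eleven, by decide, by decide, by decide, by decide,
    by decide, Or.inl le_rfl⟩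

theorem data_thirteen : Data 13 6 4 2 6 :=
  ⟨rfl, by norm_num, fun {_} => checkAll_thirteen, by decide, by decide, by decide, by decide,
    by decide, Or.inl le_rfl⟩

theorem sylow_count [Fact p.Prime] {m : ℕ} {G : Type u} [Group G] [Finite G] [IsSimpleGroup G]
    (hcard : Nat.card G = p * m) (hm : ¬ p ∣ m) (hm1 : 1 < m)
    (hk : ∀ k ≤ m, k ∣ m → k % p = 1 → k = 1 ∨ k = p + 1) :
    Nat.card (Sylow p G) = p + 1 := by
  have hp : p.Prime := Fact.out
  let P : Sylow p G := default
  have hPc : Nat.card (P : Subgroup G) = p := by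
    rw [show Nat.card (P : Subgroup G) = Nat.card P from rfl, P.card_eq_multiplicity, hcard,
      Nat.factorization_mul hp.ne_zero (by omega), Finsupp.add_apply, hp.factorization_self,
      Nat.factorization_eq_zero_of_not_dvd hm]
    simp
  have hidx : (P : Subgroup G).index = m := by
    have h1 := card_mul_index (P : Subgroup G)
    rw [hPc, hcard] at h1
    exact Nat.eq_of_mul_eq_mul_left hp.pos h1
  have hd : Nat.card (Sylow p G) ∣ m := hidx ▸ P.card_dvd_index
  have hmod : Nat.card (Sylow p G) % p = 1 := by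
    have := card_sylow_modEq_one p G
    rwa [Nat.ModEq, Nat.mod_eq_of_lt hp.one_lt] at this
  rcases hk _ (Nat.le_of_dvd (by omega) hd) hd hmod with h1 | h1
  · exfalso
    have hN : normalizer ((P : Subgroup G) : Set G) = ⊤ := by
      have h2 := Sylow.card_eq_index_normalizer P
      rw [h1] at h2
      exact index_eq_one.1 h2.symm
    rcases (normalizer_eq_top_iff.1 hN).eq_bot_or_eq_top with h2 | h2
    · rw [h2, card_bot] at hPc; exact hp.ne_one hPc.symm
    · rw [h2, index_top] at hidx; omega
  · exact h1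

/-- A simple group of order `p (p² - 1) / 2`, `p ∈ {7, 11, 13}`, is `PSL₂(p)`. -/
theorem iso_psl {G : Type u} [Group G] [Finite G] [IsSimpleGroup G] (hp : p = 7 ∨ p = 11 ∨ p = 13)
    (hcard : 2 * Nat.card G = p * (p ^ 2 - 1)) {F : Type*} [Field F] [Fintype F]
    (hF : Fintype.card F = p) :
    Nonempty (G ≃* Matrix.ProjectiveSpecialLinearGroup (Fin 2) F) := by
  have : IsSimpleGroup (Matrix.ProjectiveSpecialLinearGroup (Fin 2) F) :=
    Linear.isSimpleGroup_PSL_fin le_rfl fun _ => by
      rw [Nat.card_eq_fintype_card, hF]; omega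
  have hPSL := Linear.card_PSL_two_mul (F := F)
  rw [hF] at hPSL
  have go : ∀ {h g₀ n skip m : ℕ} (_ : Data p h g₀ n skip) [Fact p.Prime]
      (_ : m = h * (p + 1)) (_ : Nat.card G = p * m)
      (_ : Nat.card (Matrix.ProjectiveSpecialLinearGroup (Fin 2) F) = p * m)
      (_ : ¬ p ∣ m) (_ : 1 < m) (_ : ∀ k ≤ m, k ∣ m → k % p = 1 → k = 1 ∨ k = p + 1),
      Nonempty (G ≃* Matrix.ProjectiveSpecialLinearGroup (Fin 2) F) := by
    intro h g₀ n skip m hd _ hm hG hH hnd h1 hk
    obtain ⟨φ, hφ, hr⟩ := exists_range_eq hd (by rw [hG, hm, mul_assoc]) (sylow_count hG hnd h1 hk)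
    obtain ⟨ψ, hψ, hr'⟩ := exists_range_eq hd (G := Matrix.ProjectiveSpecialLinearGroup (Fin 2) F)
      (by rw [hH, hm, mul_assoc]) (sylow_count hH hnd h1 hk)
    exact ⟨(MonoidHom.ofInjective hφ).trans ((MulEquiv.subgroupCongr (hr.trans hr'.symm)).trans
      (MonoidHom.ofInjective hψ).symm)⟩
  rcases hp with rfl | rfl | rfl <;> norm_num at hcard hPSL
  · have : Fact (Nat.Prime 7) := ⟨by norm_num⟩
    exact go (m := 24) data_seven (by norm_num) (by omega) (by omega) (by norm_num) (by norm_num)
      (by decide)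
  · have : Fact (Nat.Prime 11) := ⟨by norm_num⟩
    exact go (m := 60) data_eleven (by norm_num) (by omega) (by omega) (by norm_num) (by norm_num)
      (by decide)
  · have : Fact (Nat.Prime 13) := ⟨by norm_num⟩
    exact go (m := 84) data_thirteen (by norm_num) (by omega) (by omega) (by norm_num) (by norm_num)
      (by decide)

end Cfsg.Agent.H30.PSLPrime
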