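import Cfsg.Agent.H30.Supersolvable

set_option autoImplicit false

namespace Cfsg.Agent.H30

open Subgroup

universe u

theorem isSupersolvable_abelian :
    ∀ (n : ℕ) {A : Type u} [CommGroup A] [Finite A], Nat.card A ≤ n → Cfsg.IsSupersolvable A := by
  intro n
  induction n with
  | zero => intro A _ _ h; exact absurd h (Nat.not_le.2 Nat.card_pos)
  | succ n ih =>
    intro A _ _ hc
    cases subsingleton_or_nontrivial A
    · exact isSupersolvable_of_subsingleton
    obtain ⟨x, hx⟩ := exists_ne (1 : A)
    have hne : zpowers x ≠ ⊥ := by rwa [Ne, zpowers_eq_bot]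
    have := card_quotient_lt (zpowers x) hne
    exact isSupersolvable_of_quotient_cyclic (zpowers x) inferInstance
      (ih (A := A ⧸ zpowers x) (by omega))

end Cfsg.Agent.H30
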