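import Cfsg.Agent.Hall.CardForms
import Cfsg.Prelude.Def_SolvableStructure

set_option autoImplicit false
set_option linter.unusedSectionVars false

/-! Hall complement systems of finite solvable groups and their system normalizers. -/

namespace Cfsg.Agent.H30

open Subgroup
open scoped Pointwise

universe u

variable {G : Type u} [Group G]

theorem index_inf_of_coprime [Finite G] {H K : Subgroup G} (hc : H.index.Coprime K.index) :
    (H ⊓ K).index = H.index * K.index := by
  refine le_antisymm index_inf_le (Nat.le_of_dvd ?_ ?_)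
  · exact Nat.pos_of_ne_zero index_ne_zero_of_finite
  · exact hc.mul_dvd_of_dvd_of_dvd (index_dvd_of_le inf_le_left) (index_dvd_of_le inf_le_right)

theorem relIndex_eq_of_coprime [Finite G] {H K : Subgroup G} (hc : H.index.Coprime K.index) :
    H.relIndex K = H.index := by
  have h1 := relIndex_mul_index (inf_le_right (a := H) (b := K))
  rw [inf_relIndex_right, index_inf_of_coprime hc] at h1
  exact Nat.eq_of_mul_eq_mul_right (Nat.pos_of_ne_zero index_ne_zero_of_finite) h1

theorem exists_mul_of_coprime_index [Finite G] {H K : Subgroup G} (hc : H.index.Coprime K.index)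
    (g : G) : ∃ h ∈ H, ∃ k ∈ K, h * k = g := by
  let f : K ⧸ H.subgroupOf K → G ⧸ H :=
    Quotient.map' Subtype.val fun a b h => by
      rw [QuotientGroup.leftRel_apply] at h ⊢
      exact h
  have hf : Function.Injective f := by
    intro a b h
    induction a using Quotient.inductionOn' with | h a =>
    induction b using Quotient.inductionOn' with | h b =>
    apply QuotientGroup.eq.2
    exact mem_subgroupOf.2 (QuotientGroup.eq.1 h)
  have hcard : Nat.card (K ⧸ H.subgroupOf K) = Nat.card (G ⧸ H) := relIndex_eq_of_coprime hc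
  obtain ⟨y, hy⟩ := ((Nat.bijective_iff_injective_and_card f).2 ⟨hf, hcard⟩).2 (g⁻¹ : G)
  induction y using Quotient.inductionOn' with | h k =>
  have h1 : (k : G)⁻¹ * g⁻¹ ∈ H := QuotientGroup.eq.1 hy
  exact ⟨_, inv_mem h1, _, inv_mem k.2, by group⟩

theorem index_finset_inf [Finite G] {ι : Type*} (f : ι → Subgroup G) (s : Finset ι)
    (hc : (s : Set ι).Pairwise fun i j => (f i).index.Coprime (f j).index) :
    (s.inf f).index = ∏ i ∈ s, (f i).index := by
  classical
  induction s using Finset.induction_on with
  | empty => simp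
  | insert a s ha ih =>
    rw [Finset.coe_insert] at hc
    have hs := ih (hc.mono (Set.subset_insert _ _))
    rw [Finset.inf_insert, Finset.prod_insert ha, ← hs]
    refine index_inf_of_coprime ?_
    rw [hs]
    exact Nat.Coprime.prod_right fun i hi =>
      hc (Set.mem_insert _ _) (Set.mem_insert_of_mem _ hi) (fun h => ha (h ▸ hi))

theorem conj_smul_eq_iff_mem_normalizer {g : G} {H : Subgroup G} :
    MulAut.conj g • H = H ↔ g ∈ normalizer (H : Set G) := by
  constructor
  · intro h
    rw [mem_normalizer_iff'']
    intro x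
    conv_lhs => rw [← h]
    exact Hall.mem_conj_smul
  · intro h
    ext x
    rw [Hall.mem_conj_smul]
    exact ((mem_normalizer_iff''.1 h) x).symm

/-- Simultaneous conjugation by an element of `A`. -/
theorem exists_conj_forall [Finite G] {ι : Type*} (A : Subgroup G) (X L : ι → Subgroup G)
    (s : Finset ι) (hconj : ∀ i ∈ s, ∃ a ∈ A, MulAut.conj a • X i = L i)
    (hc : (s : Set ι).Pairwise fun i j => ((L i).relIndex A).Coprime ((L j).relIndex A)) :
    ∃ a ∈ A, ∀ i ∈ s, MulAut.conj a • X i = L i := by
  classical
  induction s using Finset.induction_on with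
  | empty => exact ⟨1, one_mem A, by simp⟩
  | insert q s hq ih =>
    rw [Finset.coe_insert] at hc
    have hcs := hc.mono (Set.subset_insert _ _)
    obtain ⟨a, ha, has⟩ := ih (fun i hi => hconj i (Finset.mem_insert_of_mem hi)) hcs
    obtain ⟨b, hb, hbq⟩ := hconj q (Finset.mem_insert_self _ _)
    set D := s.inf (fun i => (L i).subgroupOf A) with hD
    have hcop : ((L q).subgroupOf A).index.Coprime D.index := by
      rw [hD, index_finset_inf _ _ hcs]
      exact Nat.Coprime.prod_right fun i hi =>
        hc (Set.mem_insert _ _) (Set.mem_insert_of_mem _ hi) (fun h => hq (h ▸ hi))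
    obtain ⟨l, hl, d, hd, he⟩ := exists_mul_of_coprime_index hcop (⟨b * a⁻¹, mul_mem hb (inv_mem ha)⟩ : A)
    have he' : (l : G) * d = b * a⁻¹ := congrArg Subtype.val he
    refine ⟨d * a, mul_mem d.2 ha, fun i hi => ?_⟩
    rcases Finset.mem_insert.1 hi with rfl | hi
    · have : (d : G) * a = (l : G)⁻¹ * b := by
        calc (d : G) * a = (l : G)⁻¹ * ((l : G) * d) * a := by group
          _ = _ := by rw [he']; group
      rw [this, Hall.conj_mul_smul, hbq]
      exact Hall.conj_smul_eq_self_of_mem (inv_mem hl)
    · rw [Hall.conj_mul_smul, has i hi]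
      exact Hall.conj_smul_eq_self_of_mem (Finset.inf_le (f := fun i => (L i).subgroupOf A) hi hd)

/-- The primes dividing the group order. -/
noncomputable def suppPrimes (G : Type u) : Finset Nat.Primes :=
  (Nat.card G).primeFactors.subtype Nat.Prime

theorem mem_suppPrimes [Finite G] {p : Nat.Primes} : p ∈ suppPrimes G ↔ (p : ℕ) ∣ Nat.card G := by
  refine Finset.mem_subtype.trans ?_
  rw [Nat.mem_primeFactors]
  exact ⟨fun h => h.2.1, fun h => ⟨p.2, h, Nat.card_pos.ne'⟩⟩

section
variable [Finite G] {K : Nat.Primes → Subgroup G} (hK : Cfsg.IsComplementSystem K)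
include hK

theorem system_eq_top {p : Nat.Primes} (hp : p ∉ suppPrimes G) : K p = ⊤ := by
  rw [mem_suppPrimes] at hp
  rw [← index_eq_one, hK p, Nat.factorization_eq_zero_of_not_dvd hp, pow_zero]

theorem system_index_coprime {p q : Nat.Primes} (h : p ≠ q) :
    (K p).index.Coprime (K q).index := by
  rw [hK p, hK q]
  exact Nat.coprime_pow_primes _ _ p.2 q.2 (fun e => h (Subtype.ext e))

theorem system_card (p : Nat.Primes) :
    Nat.card (K p) = ordCompl[(p : ℕ)] (Nat.card G) := by
  have h := card_mul_index (K p)
  rw [hK p] at h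
  exact (Nat.div_eq_of_eq_mul_left (pow_pos p.2.pos _) h.symm).symm

theorem system_card_not_dvd (p : Nat.Primes) : ¬ (p : ℕ) ∣ Nat.card (K p) := by
  rw [system_card hK p]
  exact Nat.not_dvd_ordCompl p.2 Nat.card_pos.ne'

theorem system_card_coprime (p : Nat.Primes) :
    (Nat.card (K p)).Coprime (K p).index := by
  rw [hK p]
  exact ((p.2.coprime_iff_not_dvd.2 (system_card_not_dvd hK p)).symm).pow_right _

/-- Any two complement systems are conjugate. -/
theorem system_conj [Group.IsSolvable G] {L : Nat.Primes → Subgroup G}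
    (hL : Cfsg.IsComplementSystem L) : ∃ g : G, ∀ p, MulAut.conj g • K p = L p := by
  have hc : ((suppPrimes G : Finset Nat.Primes) : Set Nat.Primes).Pairwise
      fun i j => ((L i).relIndex ⊤).Coprime ((L j).relIndex ⊤) := fun i _ j _ h => by
    simp only [relIndex_top_right]
    exact system_index_coprime hL h
  have hconj : ∀ p ∈ suppPrimes G, ∃ g ∈ (⊤ : Subgroup G), MulAut.conj g • K p = L p := by
    intro p _
    obtain ⟨g, hg⟩ := Hall.subgroup_card_conj (card_mul_index (K p)).symm
      (system_card_coprime hK p) (H := K p) (K := L p) rfl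
      (by rw [system_card hK, system_card hL])
    exact ⟨g, mem_top g, hg⟩
  obtain ⟨g, -, hg⟩ := exists_conj_forall ⊤ K L (suppPrimes G) hconj hc
  refine ⟨g, fun p => ?_⟩
  by_cases hp : p ∈ suppPrimes G
  · exact hg p hp
  · rw [system_eq_top hK hp, system_eq_top hL hp]
    exact Hall.conj_smul_eq_self_of_mem (mem_top g)

theorem mem_systemNormalizer {x : G} :
    x ∈ Cfsg.systemNormalizer K ↔ ∀ p, x ∈ normalizer (K p : Set G) :=
  Subgroup.mem_iInf

/-- The system normalizer is nilpotent. -/
theorem systemNormalizer_isNilpotent : Group.IsNilpotent (Cfsg.systemNormalizer K) := by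
  classical
  set D := Cfsg.systemNormalizer K with hD
  apply (Group.isNilpotent_of_finite_tfae.out 3 0).1
  intro p hp R
  let pp : Nat.Primes := ⟨p, hp.out⟩
  set P := ((suppPrimes G).erase pp).inf K with hP
  have hPD : ∀ x ∈ D, x ∈ normalizer (P : Set G) := by
    intro x hx
    rw [mem_normalizer_iff]
    intro y
    simp only [hP, Finset.inf_eq_iInf, mem_iInf]
    exact forall₂_congr fun q _ => (mem_normalizer_iff.1 ((mem_systemNormalizer hK).1 hx q) y)
  -- `P` is a `p`-group
  have hPp : IsPGroup p P := by
    refine IsPGroup.of_card (n := (Nat.card P).primeFactorsList.length) ?_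
    refine Nat.eq_prime_pow_of_unique_prime_dvd Nat.card_pos.ne' fun {d} hd hdd => ?_
    by_contra hne
    let dd : Nat.Primes := ⟨d, hd⟩
    have hmem : dd ∈ (suppPrimes G).erase pp :=
      Finset.mem_erase.2 ⟨fun h => hne (congrArg Subtype.val h),
        mem_suppPrimes.2 (hdd.trans (card_subgroup_dvd_card P))⟩
    exact system_card_not_dvd hK dd (hdd.trans (card_dvd_of_le (Finset.inf_le hmem)))
  -- every `p`-subgroup of `D` lies in `P`
  have hle : (R : Subgroup D).map D.subtype ≤ P := by
    have hR : IsPGroup p ((R : Subgroup D).map D.subtype) := R.isPGroup'.map _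
    have hsup : IsPGroup p (((R : Subgroup D).map D.subtype) ⊔ P : Subgroup G) :=
      hR.to_sup_of_normal_right' hPp fun x hx => hPD x (map_subtype_le _ hx)
    obtain ⟨S, hS⟩ := IsPGroup.exists_le_sylow hsup
    have hidx : P.index = ∏ q ∈ (suppPrimes G).erase pp, (K q).index :=
      index_finset_inf _ _ fun i _ j _ h => system_index_coprime hK h
    have hnd : ¬ p ∣ P.index := by
      rw [hidx]
      intro hd
      obtain ⟨q, hq, hqd⟩ := (Prime.dvd_finsetProd_iff hp.out.prime _).1 hd
      rw [hK q] at hqd
      exact (Finset.mem_erase.1 hq).1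
        (Subtype.ext ((Nat.prime_dvd_prime_iff_eq hp.out q.2).1 (hp.out.dvd_of_dvd_pow hqd)).symm)
    have := (hPp.toSylow hnd).is_maximal' S.isPGroup' (le_sup_right.trans hS)
    exact (le_sup_left.trans hS).trans this.le
  -- so the Sylow subgroup is `P ∩ D`
  have hPD' : IsPGroup p (P.subgroupOf D) := hPp.comap_of_injective D.subtype D.subtype_injective
  have heq : P.subgroupOf D = R := R.is_maximal' hPD' fun x hx => hle (mem_map_of_mem _ hx)
  rw [← heq]
  exact normal_subgroupOf_of_le_normalizer fun x hx => hPD x hx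

theorem system_map_isComplementSystem (N : Subgroup G) [N.Normal] :
    Cfsg.IsComplementSystem (fun p => (K p).map (QuotientGroup.mk' N)) := by
  intro p
  set M := (K p).map (QuotientGroup.mk' N) with hM
  have hd : M.index ∣ (p : ℕ) ^ (Nat.card G).factorization p := by
    rw [← hK p]
    exact index_map_dvd _ (QuotientGroup.mk'_surjective N)
  obtain ⟨a, -, ha⟩ := (Nat.dvd_prime_pow p.2).1 hd
  have hb : ¬ (p : ℕ) ∣ Nat.card M := fun h =>
    system_card_not_dvd hK p (h.trans (card_map_dvd (K p) _))
  show M.index = _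
  rw [ha, ← card_mul_index M, ha, Nat.factorization_mul Nat.card_pos.ne' (pow_ne_zero _ p.2.ne_zero),
    Finsupp.add_apply, Nat.factorization_eq_zero_of_not_dvd hb, zero_add,
    p.2.factorization_pow, Finsupp.single_eq_same]

theorem systemNormalizer_map [Group.IsSolvable G] (N : Subgroup G) [N.Normal] :
    Cfsg.systemNormalizer (fun p => (K p).map (QuotientGroup.mk' N)) =
      (Cfsg.systemNormalizer K).map (QuotientGroup.mk' N) := by
  have hf := QuotientGroup.mk'_surjective N
  apply le_antisymm
  swap
  · refine le_iInf fun p => ?_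
    exact (map_mono (iInf_le _ p)).trans (le_normalizer_map _)
  intro y hy
  obtain ⟨g, rfl⟩ := hf y
  have hy' : ∀ p, QuotientGroup.mk' N g ∈ normalizer ((K p).map (QuotientGroup.mk' N) : Set (G ⧸ N)) :=
    fun p => Subgroup.mem_iInf.1 hy p
  have hconj : ∀ p : Nat.Primes, ∃ n ∈ N, MulAut.conj n • (MulAut.conj g • K p) = K p := by
    intro p
    set M := K p ⊔ N with hM
    have hX : MulAut.conj g • K p ≤ M := by
      intro x hx
      rw [Hall.mem_conj_smul] at hx
      have h1 := (mem_normalizer_iff.1 (hy' p) _).1 (mem_map_of_mem (QuotientGroup.mk' N) hx)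
      rw [← map_inv, ← map_mul, ← map_mul] at h1
      have h2 : g * (g⁻¹ * x * g) * g⁻¹ = x := by group
      rw [h2] at h1
      rw [hM, ← QuotientGroup.ker_mk' N, ← comap_map_eq]
      exact h1
    have hcop : (Nat.card (K p)).Coprime ((K p).relIndex M) :=
      Nat.Coprime.coprime_dvd_right (Dvd.intro _ (relIndex_mul_index le_sup_left))
        (system_card_coprime hK p)
    have hcardM : Nat.card M = Nat.card (K p) * (K p).relIndex M := by
      rw [← Hall.card_subgroupOf_of_le (le_sup_left : K p ≤ M)]
      exact (((K p).subgroupOf M).card_mul_index).symm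
    obtain ⟨m, hm⟩ := Hall.subgroup_card_conj hcardM hcop
      (H := (MulAut.conj g • K p).subgroupOf M) (K := (K p).subgroupOf M)
      (by rw [Hall.card_subgroupOf_of_le hX, Hall.card_conj_smul])
      (Hall.card_subgroupOf_of_le le_sup_left)
    have h' := congrArg (Subgroup.map M.subtype) hm
    rw [Hall.map_conj_smul, map_subgroupOf_eq_of_le hX,
      map_subgroupOf_eq_of_le (le_sup_left : K p ≤ M)] at h'
    obtain ⟨k, hk, n, hn, hkn⟩ := mem_sup_of_normal_right.1 m.2
    refine ⟨n, hn, ?_⟩
    have h3 : n = k⁻¹ * (m : G) := by rw [← hkn]; group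
    rw [h3, Hall.conj_mul_smul]
    rw [show MulAut.conj (m : G) • (MulAut.conj g • K p) = K p from h']
    exact Hall.conj_smul_eq_self_of_mem (inv_mem hk)
  have hc : ((suppPrimes G : Finset Nat.Primes) : Set Nat.Primes).Pairwise
      fun i j => ((K i).relIndex N).Coprime ((K j).relIndex N) := by
    have hdvd : ∀ q, (K q).relIndex N ∣ (K q).index := by
      intro q
      obtain ⟨k, hk⟩ := relIndex_dvd_index_of_normal N (K q)
      refine ⟨k, ?_⟩
      have e1 := relIndex_mul_index (inf_le_left (a := K q) (b := N))
      have e2 := relIndex_mul_index (inf_le_right (a := K q) (b := N))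
      rw [inf_relIndex_left] at e1
      rw [inf_relIndex_right, ← e1, hk] at e2
      have hpos : 0 < N.relIndex (K q) :=
        Nat.pos_of_ne_zero fun h0 => by
          rw [h0, zero_mul] at hk; exact index_ne_zero_of_finite hk
      apply Nat.eq_of_mul_eq_mul_left hpos
      rw [← e2]; ring
    exact fun i _ j _ h => Nat.Coprime.coprime_dvd_left (hdvd i)
      (Nat.Coprime.coprime_dvd_right (hdvd j) (system_index_coprime hK h))
  obtain ⟨n, hn, hns⟩ :=
    exists_conj_forall N (fun p => MulAut.conj g • K p) K (suppPrimes G) (fun p _ => hconj p) hc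
  refine ⟨n * g, (mem_systemNormalizer hK).2 fun p => conj_smul_eq_iff_mem_normalizer.1 ?_, ?_⟩
  · rw [Hall.conj_mul_smul]
    by_cases hp : p ∈ suppPrimes G
    · exact hns p hp
    · rw [system_eq_top hK hp]
      rw [Hall.conj_smul_eq_self_of_mem (mem_top g), Hall.conj_smul_eq_self_of_mem (mem_top n)]
  · rw [map_mul]
    have : QuotientGroup.mk' N n = 1 := by
      rw [← MonoidHom.mem_ker, QuotientGroup.ker_mk']; exact hn
    rw [this, one_mul]

/-- The normal closure of a system normalizer is the whole group. -/
theorem systemNormalizer_normalClosure [Group.IsSolvable G] :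
    normalClosure ((Cfsg.systemNormalizer K : Subgroup G) : Set G) = ⊤ := by
  set M := normalClosure ((Cfsg.systemNormalizer K : Subgroup G) : Set G) with hM
  by_contra hne
  have hsolv : Group.IsSolvable (G ⧸ M) :=
    Group.isSolvable_of_surjective (QuotientGroup.mk'_surjective M)
  have hnt : Nontrivial (G ⧸ M) := by
    rw [← Finite.one_lt_card_iff_nontrivial]
    have h1 : M.index ≠ 1 := fun h => hne (index_eq_one.1 h)
    have h2 : M.index ≠ 0 := index_ne_zero_of_finite
    rw [← index_eq_card]; omega
  have hlt := Group.IsSolvable.commutator_lt_top_of_nontrivial (G ⧸ M)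
  set M' := (_root_.commutator (G ⧸ M)).comap (QuotientGroup.mk' M) with hM'
  have hM'n : M'.Normal := Normal.comap inferInstance _
  have hMM' : M ≤ M' := by
    intro x hx
    rw [hM', mem_comap, QuotientGroup.mk'_apply, (QuotientGroup.eq_one_iff x).2 hx]
    exact one_mem _
  have hab : ∀ H : Subgroup (G ⧸ M'), H.Normal := by
    intro H
    refine ⟨fun h hh x => ?_⟩
    have : x * h * x⁻¹ = h := by
      obtain ⟨a, rfl⟩ := QuotientGroup.mk'_surjective M' x
      obtain ⟨b, rfl⟩ := QuotientGroup.mk'_surjective M' h
      rw [← mul_inv_eq_one, ← map_inv, ← map_inv, ← map_mul, ← map_mul, ← map_mul,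
        ← MonoidHom.mem_ker, QuotientGroup.ker_mk', hM', mem_comap]
      simp only [map_mul, map_inv]
      exact commutator_mem_commutator (mem_top _) (mem_top _)
    rwa [this]
  have h1 := systemNormalizer_map hK M'
  have h2 : Cfsg.systemNormalizer (fun p => (K p).map (QuotientGroup.mk' M')) = ⊤ := by
    refine iInf_eq_top.2 fun p => ?_
    exact normalizer_eq_top_iff.2 (hab _)
  have h3 : (Cfsg.systemNormalizer K).map (QuotientGroup.mk' M') = ⊥ := by
    rw [Subgroup.map_eq_bot_iff, QuotientGroup.ker_mk']
    exact subset_normalClosure.trans hMM'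
  rw [h2, h3] at h1
  apply hlt.ne
  have h4 : M' = ⊤ := by
    rw [← QuotientGroup.ker_mk' M', ← MonoidHom.comap_bot, ← h1, comap_top]
  rw [← map_comap_eq_self_of_surjective (QuotientGroup.mk'_surjective M) (_root_.commutator (G ⧸ M))]
  rw [← hM', h4, map_top_of_surjective _ (QuotientGroup.mk'_surjective M)]

end

end Cfsg.Agent.H30
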