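import Cfsg.Agent.Hall.CardForms
import Cfsg.Agent.Cores.Fitting
import Cfsg.Agent.Hall.MinimalNormal

set_option autoImplicit false

/-! Core-free maximal subgroups. -/

namespace Cfsg.Agent.H30

open Subgroup
open scoped Pointwise

universe u

variable {G : Type u} [Group G]

theorem sup_eq_top_of_corefree {U : Subgroup G} (hU : IsCoatom U) (hcore : U.normalCore = ⊥)
    {N : Subgroup G} [hn : N.Normal] (hN : N ≠ ⊥) : N ⊔ U = ⊤ := by
  refine hU.2 _ (right_lt_sup.2 fun h => hN ?_)
  exact eq_bot_iff.2 (hcore ▸ normal_le_normalCore.2 h)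

theorem centralizer_inf_eq_bot {U : Subgroup G} (hU : IsCoatom U) (hcore : U.normalCore = ⊥)
    {N : Subgroup G} [hn : N.Normal] (hN : N ≠ ⊥) : centralizer (N : Set G) ⊓ U = ⊥ := by
  have : (centralizer (N : Set G) ⊓ U).Normal := by
    refine ⟨fun x hx g => ?_⟩
    obtain ⟨n, hn', u, hu, rfl⟩ :=
      mem_sup_of_normal_left.1 ((sup_eq_top_of_corefree hU hcore hN).symm ▸ mem_top g)
    have hy : u * x * u⁻¹ ∈ centralizer (N : Set G) ⊓ U :=
      ⟨(inferInstance : (centralizer (N : Set G)).Normal).conj_mem x hx.1 u,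
        U.mul_mem (U.mul_mem hu hx.2) (U.inv_mem hu)⟩
    have h1 : n * (u * x * u⁻¹) = (u * x * u⁻¹) * n := mem_centralizer_iff.1 hy.1 n hn'
    have h2 : n * u * x * (n * u)⁻¹ = u * x * u⁻¹ := by
      calc n * u * x * (n * u)⁻¹ = n * (u * x * u⁻¹) * n⁻¹ := by group
        _ = _ := by rw [h1, mul_inv_cancel_right]
    rw [h2]; exact hy
  exact eq_bot_iff.2 (hcore ▸ normal_le_normalCore.2 inf_le_right)

theorem centralizer_minimal {U : Subgroup G} (hU : IsCoatom U) (hcore : U.normalCore = ⊥)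
    {N : Subgroup G} [hn : N.Normal] (hN : N ≠ ⊥) {K : Subgroup G} (hK : K.Normal)
    (hle : K ≤ centralizer (N : Set G)) : K = ⊥ ∨ K = centralizer (N : Set G) := by
  refine or_iff_not_imp_left.2 fun hK0 => le_antisymm hle fun c hc => ?_
  obtain ⟨k, hk, u, hu, rfl⟩ :=
    mem_sup_of_normal_left.1 ((sup_eq_top_of_corefree hU hcore hK0).symm ▸ mem_top c)
  have h1 : u ∈ centralizer (N : Set G) ⊓ U := by
    refine ⟨?_, hu⟩
    have := mul_mem (inv_mem (hle hk)) hc
    rwa [inv_mul_cancel_left] at this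
  rw [centralizer_inf_eq_bot hU hcore hN, mem_bot] at h1
  rwa [h1, mul_one]

theorem isComplement'_of_inf_bot {U N : Subgroup G} [N.Normal] (h1 : N ⊓ U = ⊥) (h2 : N ⊔ U = ⊤) :
    IsComplement' N U :=
  isComplement'_of_disjoint_and_mul_eq_univ (disjoint_iff.2 h1) (by
    rw [← normal_mul, h2]; rfl)

/-- Two subgroups with trivial intersection with a normal subgroup `B` and the same join with it
are isomorphic. -/
theorem nonempty_mulEquiv_of_sup_eq {A X B : Subgroup G} [B.Normal] (hA : A ⊓ B = ⊥)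
    (hX : X ⊓ B = ⊥) (h : A ⊔ B = X ⊔ B) : Nonempty (A ≃* X) := by
  have key : ∀ Y : Subgroup G, Y ⊓ B = ⊥ →
      Function.Injective ((QuotientGroup.mk' B).comp Y.subtype) ∧
      ((QuotientGroup.mk' B).comp Y.subtype).range = (Y ⊔ B).map (QuotientGroup.mk' B) := by
    intro Y hY
    constructor
    · rw [← MonoidHom.ker_eq_bot_iff, eq_bot_iff]
      intro y hy
      have : (y : G) ∈ Y ⊓ B := ⟨y.2, by rw [← QuotientGroup.ker_mk' B]; exact hy⟩
      rw [hY, mem_bot] at this
      exact mem_bot.2 (Subtype.ext this)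
    · rw [MonoidHom.range_comp, range_subtype, Subgroup.map_sup, QuotientGroup.map_mk'_self,
        sup_bot_eq]
  obtain ⟨hiA, hrA⟩ := key A hA
  obtain ⟨hiX, hrX⟩ := key X hX
  refine ⟨(MonoidHom.ofInjective hiA).trans ((MulEquiv.subgroupCongr ?_).trans
    (MonoidHom.ofInjective hiX).symm)⟩
  rw [hrA, hrX, h]

theorem two_minimal_normal [Finite G] {U : Subgroup G} (hU : IsCoatom U)
    (hcore : U.normalCore = ⊥) {A B : Subgroup G} [A.Normal] [B.Normal] (hA : A ≠ ⊥) (hB : B ≠ ⊥)
    (hAmin : ∀ K : Subgroup G, K.Normal → K ≤ A → K = ⊥ ∨ K = A) (hAB : A ≠ B)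
    (hBmin : ∀ K : Subgroup G, K.Normal → K ≤ B → K = ⊥ ∨ K = B) :
    centralizer (B : Set G) = A ∧ IsComplement' A U ∧ ¬ IsMulCommutative A ∧
      Nonempty (A ≃* ↥((A ⊔ B) ⊓ U)) := by
  have hdis : A ⊓ B = ⊥ := by
    rcases hAmin (A ⊓ B) inferInstance inf_le_left with h | h
    · exact h
    · rcases hBmin A inferInstance (inf_eq_left.1 h) with h' | h'
      · exact absurd h' hA
      · exact absurd h' hAB
  have hAC : A ≤ centralizer (B : Set G) := fun a ha => mem_centralizer_iff.2 fun b hb =>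
    (commute_of_normal_of_disjoint A B inferInstance inferInstance (disjoint_iff.2 hdis) a b ha hb).eq.symm
  have hBC : B ≤ centralizer (A : Set G) := le_centralizer_iff.1 hAC
  have hCB : centralizer (B : Set G) = A :=
    ((centralizer_minimal hU hcore hB (inferInstance : A.Normal) hAC).resolve_left hA).symm
  have hCA : centralizer (A : Set G) = B :=
    ((centralizer_minimal hU hcore hA (inferInstance : B.Normal) hBC).resolve_left hB).symm
  have hAU : A ⊓ U = ⊥ := by
    have := centralizer_inf_eq_bot hU hcore hB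
    rwa [hCB] at this
  have hBU : B ⊓ U = ⊥ := by
    have := centralizer_inf_eq_bot hU hcore hA
    rwa [hCA] at this
  refine ⟨hCB, isComplement'_of_inf_bot hAU (sup_eq_top_of_corefree hU hcore hA), ?_, ?_⟩
  · intro hab
    have : A ≤ B := hCA ▸ fun a ha => mem_centralizer_iff.2 fun b hb =>
      congrArg Subtype.val (hab.is_comm.comm (⟨b, hb⟩ : A) ⟨a, ha⟩)
    exact hA (by rw [← inf_eq_left.2 this]; exact hdis)
  · refine nonempty_mulEquiv_of_sup_eq hdis ?_ ?_
    · rw [eq_bot_iff, ← hBU]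
      exact le_inf inf_le_right (inf_le_left.trans inf_le_right)
    · refine le_antisymm ?_ (sup_le inf_le_left le_sup_right)
      intro x hx
      obtain ⟨b, hb, u, hu, rfl⟩ :=
        mem_sup_of_normal_left.1 ((sup_eq_top_of_corefree hU hcore hB).symm ▸ mem_top x)
      have : u ∈ A ⊔ B := by
        have := mul_mem (inv_mem ((le_sup_right : B ≤ A ⊔ B) hb)) hx
        rwa [inv_mul_cancel_left] at this
      exact mul_mem (mem_sup_right hb) (mem_sup_left ⟨this, hu⟩)

/-- Core-free maximal subgroups of solvable groups are conjugate. -/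
theorem corefree_maximal_conj [Finite G] [Group.IsSolvable G] {U V : Subgroup G} (hU : IsCoatom U)
    (hV : IsCoatom V) (hUc : U.normalCore = ⊥) (hVc : V.normalCore = ⊥) :
    ∃ g : G, MulAut.conj g • U = V := by
  have hGnt : (⊤ : Subgroup G) ≠ ⊥ := fun h => hU.1 (top_le_iff.1 (h ▸ bot_le))
  have : Nontrivial G := by
    by_contra h
    rw [not_nontrivial_iff_subsingleton] at h
    exact hGnt (Subsingleton.elim _ _)
  obtain ⟨M, p, hMn, hM0, hp, hMp, hMab, -⟩ := Hall.exists_minimal_normal_pgroup (G := G)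
  have hCM : centralizer (M : Set G) = M :=
    ((centralizer_minimal hU hUc hM0 hMn (le_centralizer M)).resolve_left hM0).symm
  have hmin : ∀ K : Subgroup G, K.Normal → K ≤ M → K = ⊥ ∨ K = M := fun K hK hle => by
    have := centralizer_minimal hU hUc hM0 hK (hle.trans (le_centralizer M))
    rwa [hCM] at this
  by_cases hMt : M = ⊤
  · have hbot : ∀ W : Subgroup G, W.normalCore = ⊥ → W = ⊥ := fun W hW => by
      have : W.Normal := ⟨fun x hx g => by
        have h := congrArg Subtype.val
          (hMab.is_comm.comm (⟨g, hMt ▸ mem_top g⟩ : M) ⟨x, hMt ▸ mem_top x⟩)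
        rw [show g * x = x * g from h, mul_inv_cancel_right]; exact hx⟩
      rw [← hW, normalCore_eq_self]
    exact ⟨1, by simp [hbot U hUc, hbot V hVc]⟩
  have hMU : M ⊓ U = ⊥ := by
    have := centralizer_inf_eq_bot hU hUc hM0; rwa [hCM] at this
  have hMV : M ⊓ V = ⊥ := by
    have := centralizer_inf_eq_bot hV hVc hM0; rwa [hCM] at this
  have := Fact.mk hp
  -- a minimal normal subgroup above `M`
  have hntq : Nontrivial (G ⧸ M) := by
    rw [← Finite.one_lt_card_iff_nontrivial]
    have h1 : M.index ≠ 1 := fun h => hMt (index_eq_one.1 h)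
    have h2 : M.index ≠ 0 := index_ne_zero_of_finite
    rw [← index_eq_card]; omega
  have : Group.IsSolvable (G ⧸ M) :=
    Group.isSolvable_of_surjective (QuotientGroup.mk'_surjective M)
  obtain ⟨L₀, q, hL₀n, hL₀ne, hq, hL₀q, -⟩ := Hall.exists_minimal_normal_pgroup (G := G ⧸ M)
  have := Fact.mk hq
  set L := L₀.comap (QuotientGroup.mk' M) with hL
  have hLn : L.Normal := hL₀n.comap _
  have hML : M ≤ L := by
    intro x hx
    rw [hL, mem_comap, QuotientGroup.mk'_apply, (QuotientGroup.eq_one_iff x).2 hx]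
    exact one_mem _
  have hLmap : L.map (QuotientGroup.mk' M) = L₀ :=
    map_comap_eq_self_of_surjective (QuotientGroup.mk'_surjective M) L₀
  have hLne : L ≠ M := fun h => hL₀ne (by rw [← hLmap, h, QuotientGroup.map_mk'_self])
  -- `q` differs from `p`
  have hqp : q ≠ p := by
    rintro rfl
    have hLp : IsPGroup q L := hL₀q.comap_of_ker_isPGroup _ (by rwa [QuotientGroup.ker_mk'])
    have hMnt : Nontrivial M := (M.nontrivial_iff_ne_bot).2 hM0
    have hMLn : (M.subgroupOf L).Normal := hMn.subgroupOf L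
    have hne : M.subgroupOf L ≠ ⊥ := by
      rw [Ne, subgroupOf_eq_bot, disjoint_iff, inf_eq_left.2 hML]; exact hM0
    obtain ⟨k, hk⟩ := (hLp.to_subgroup (M.subgroupOf L)).exists_card_eq
    have hk0 : k ≠ 0 := by
      rintro rfl
      exact hne (card_eq_one.1 (by simpa using hk))
    obtain ⟨y, hy, hy1⟩ :=
      (hLp.of_equiv ConjAct.toConjAct).exists_fixed_point_of_prime_dvd_card_of_fixed_point
        (M.subgroupOf L) (hk ▸ dvd_pow_self q hk0) (a := 1) (fun g => smul_one g)
    have hyc : ((y : L) : G) ∈ M ⊓ centralizer (L : Set G) := by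
      refine ⟨y.2, mem_centralizer_iff.2 fun x hx => ?_⟩
      have := congrArg (fun t : M.subgroupOf L => ((t : L) : G))
        (hy (ConjAct.toConjAct ⟨x, hx⟩))
      simp only [ConjAct.Subgroup.val_conj_smul, ConjAct.toConjAct_smul] at this
      simpa [mul_inv_eq_iff_eq_mul] using this
    rcases hmin (M ⊓ centralizer (L : Set G)) inferInstance inf_le_left with h | h
    · rw [h, mem_bot] at hyc
      exact hy1 (Subtype.ext (Subtype.ext hyc)).symm
    · have h2 : L ≤ centralizer (M : Set G) := le_centralizer_iff.1 (inf_eq_left.1 h)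
      rw [hCM] at h2
      exact hLne (le_antisymm h2 hML)
  -- the complements in `L` are Sylow `q`-subgroups
  obtain ⟨a, ha⟩ := hMp.exists_card_eq
  obtain ⟨b, hb⟩ := hL₀q.exists_card_eq
  have key : ∀ W : Subgroup G, IsCoatom W → W.normalCore = ⊥ → M ⊓ W = ⊥ →
      Nat.card ↥(L ⊓ W) = q ^ b ∧ W ≤ normalizer ((L ⊓ W : Subgroup G) : Set G) ∧
        normalizer ((L ⊓ W : Subgroup G) : Set G) = W := by
    intro W hW hWc hMW
    have hMW' : (L ⊓ W) ⊓ M = ⊥ := by
      rw [eq_bot_iff, ← hMW]; exact le_inf inf_le_right (inf_le_left.trans inf_le_right)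
    have hsupW : (L ⊓ W) ⊔ M = L := by
      refine le_antisymm (sup_le inf_le_left hML) fun x hx => ?_
      obtain ⟨m, hm, w, hw, rfl⟩ :=
        mem_sup_of_normal_left.1 ((sup_eq_top_of_corefree hW hWc hM0).symm ▸ mem_top x)
      have : w ∈ L := by
        have := mul_mem (inv_mem (hML hm)) hx
        rwa [inv_mul_cancel_left] at this
      exact mul_mem (mem_sup_right hm) (mem_sup_left ⟨this, hw⟩)
    have hcard : Nat.card ↥(L ⊓ W) = q ^ b := by
      rw [← hb]
      have hi : Function.Injective ((QuotientGroup.mk' M).comp (L ⊓ W).subtype) := by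
        rw [← MonoidHom.ker_eq_bot_iff, eq_bot_iff]
        intro y hy
        have : (y : G) ∈ (L ⊓ W) ⊓ M := ⟨y.2, by rw [← QuotientGroup.ker_mk' M]; exact hy⟩
        rw [hMW', mem_bot] at this
        exact mem_bot.2 (Subtype.ext this)
      rw [Nat.card_congr (MonoidHom.ofInjective hi).toEquiv, MonoidHom.range_comp, range_subtype]
      conv_rhs => rw [← hLmap, ← hsupW, Subgroup.map_sup, QuotientGroup.map_mk'_self, sup_bot_eq]
    have hle : W ≤ normalizer ((L ⊓ W : Subgroup G) : Set G) := fun w hw => by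
      rw [mem_normalizer_iff]
      intro x
      simp only [mem_inf]
      refine and_congr ?_ ?_
      · exact ⟨fun h => hLn.conj_mem x h w, fun h => by simpa [mul_assoc] using hLn.conj_mem _ h w⁻¹⟩
      · rw [W.mul_mem_cancel_right (inv_mem hw), W.mul_mem_cancel_left hw]
    refine ⟨hcard, hle, ((hW.le_iff).1 hle).resolve_left fun h => ?_⟩
    have : (L ⊓ W).Normal := normalizer_eq_top_iff.1 h
    have hbot : L ⊓ W = ⊥ := eq_bot_iff.2 (hWc ▸ normal_le_normalCore.2 inf_le_right)
    apply hLne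
    rw [← hsupW, hbot, bot_sup_eq]
  obtain ⟨hUcard, -, hUN⟩ := key U hU hUc hMU
  obtain ⟨hVcard, -, hVN⟩ := key V hV hVc hMV
  have hLcard : Nat.card L = q ^ b * p ^ a := by
    rw [card_eq_card_quotient_mul_card_subgroup (M.subgroupOf L),
      Hall.card_subgroupOf_of_le hML, ha, ← hb]
    congr 1
    have h1 : ((QuotientGroup.mk' M).comp L.subtype).ker = M.subgroupOf L := by
      rw [← MonoidHom.comap_ker, QuotientGroup.ker_mk']; rfl
    rw [← h1, Nat.card_congr (QuotientGroup.quotientKerEquivRange _).toEquiv,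
      MonoidHom.range_comp, range_subtype, hLmap]
  obtain ⟨l, hl⟩ := Hall.subgroup_card_conj hLcard
    (Nat.coprime_pow_primes _ _ hq hp hqp)
    (H := (L ⊓ U).subgroupOf L) (K := (L ⊓ V).subgroupOf L)
    (by rw [Hall.card_subgroupOf_of_le inf_le_left, hUcard])
    (by rw [Hall.card_subgroupOf_of_le inf_le_left, hVcard])
  have h' := congrArg (Subgroup.map L.subtype) hl
  rw [Hall.map_conj_smul, map_subgroupOf_eq_of_le inf_le_left,
    map_subgroupOf_eq_of_le inf_le_left] at h'
  refine ⟨l, ?_⟩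
  rw [← hUN, ← hVN, ← show MulAut.conj (l : G) • (L ⊓ U) = L ⊓ V from h']
  ext x
  rw [Hall.mem_conj_smul, mem_normalizer_iff'', mem_normalizer_iff'']
  simp only [Hall.mem_conj_smul]
  constructor
  · intro h y
    have := h ((l : G)⁻¹ * y * l)
    simpa [mul_assoc] using this
  · intro h y
    have := h ((l : G) * y * (l : G)⁻¹)
    simpa [mul_assoc] using this

end Cfsg.Agent.H30
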