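import Cfsg.Agent.S3020
import Cfsg.Agent.S3021
import Cfsg.Agent.H39.Basic
import Cfsg.Agent.H39.Dihedral
import Cfsg.Agent.H40.Generation
import Cfsg.Agent.Components.PAction
import Mathlib.GroupTheory.SchurZassenhaus
import Mathlib.GroupTheory.Transfer

/-!
Extremely closed abelian 2-subgroups: the pairwise structure, and the equivalence relation on the
conjugates of the involutions.
-/

set_option autoImplicit false
set_option linter.unusedSectionVars false

namespace Cfsg.Agent.H30.ExtremelyClosed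

open Subgroup
open scoped Pointwise

universe u

variable {G : Type u} [Group G] [Finite G]

/-- The hypothesis. -/
structure Setup (H : Subgroup G) : Prop where
  pgroup : IsPGroup 2 H
  comm : IsMulCommutative H
  closed : Cfsg.IsExtremelyClosed H

/-- `⟨H, gHg⁻¹⟩`. -/
abbrev pair (H : Subgroup G) (g : G) : Subgroup G := H ⊔ H.map (MulAut.conj g).toMonoidHom

/-- The odd core of `⟨H, gHg⁻¹⟩`. -/
abbrev oddPart (H : Subgroup G) (g : G) : Subgroup G :=
  (Cfsg.oddCore ↥(pair H g)).map (pair H g).subtype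

theorem eq_one_of_odd_of_two_pow {x : G} {k : ℕ} (hodd : Odd (orderOf x)) (h : x ^ 2 ^ k = 1) : x = 1 :=
  orderOf_eq_one_iff.1 (Nat.eq_one_of_dvd_coprimes ((Nat.coprime_two_left.2 hodd).pow_left k)
    (orderOf_dvd_of_pow_eq_one h) dvd_rfl)

namespace Setup

variable {H : Subgroup G} (hs : Setup H)
include hs

theorem commute {a b : G} (ha : a ∈ H) (hb : b ∈ H) : a * b = b * a :=
  congrArg Subtype.val (hs.comm.1.comm ⟨a, ha⟩ ⟨b, hb⟩)

theorem sup_oddPart (g : G) : H ⊔ oddPart H g = pair H g :=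
  haveI : Fact (Nat.Prime 2) := ⟨Nat.prime_two⟩
  (S3020.result H hs.pgroup hs.comm hs.closed g _ rfl).1

theorem inf_oddPart (g : G) : H ⊓ oddPart H g = ⊥ :=
  haveI : Fact (Nat.Prime 2) := ⟨Nat.prime_two⟩
  (S3020.result H hs.pgroup hs.comm hs.closed g _ rfl).2

theorem pair_le_normalizer (g : G) : pair H g ≤ normalizer (oddPart H g : Set G) :=
  Components.le_normalizer_map_subtype _

theorem odd_oddPart (g : G) : Odd (Nat.card (oddPart H g)) := by
  rw [card_map_of_injective (pair H g).subtype_injective]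
  exact Cores.odd_card_oddCore

theorem mem_oddPart_of_odd {g x : G} (hx : x ∈ pair H g) (hodd : Odd (orderOf x)) :
    x ∈ oddPart H g := by
  have hxs : x ∈ (H : Set G) * (oddPart H g : Set G) := by
    rw [← coe_mul_of_left_le_normalizer_right H _ ((le_sup_left : H ≤ pair H g).trans (hs.pair_le_normalizer g)),
      hs.sup_oddPart g]
    exact hx
  obtain ⟨h, hh, o, ⟨o', ho', rfl⟩, hxe⟩ := hxs
  set π := QuotientGroup.mk' (Cfsg.oddCore ↥(pair H g))
  have hπ : π ⟨x, hx⟩ = π ⟨h, le_sup_left (a := H) hh⟩ := by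
    rw [show (⟨x, hx⟩ : ↥(pair H g)) = ⟨h, le_sup_left (a := H) hh⟩ * o' from Subtype.ext hxe.symm, map_mul,
      show π o' = 1 from (QuotientGroup.eq_one_iff o').2 ho', mul_one]
  obtain ⟨k, hk⟩ := hs.pgroup ⟨h, hh⟩
  have h1 : π ⟨x, hx⟩ = 1 := by
    refine eq_one_of_odd_of_two_pow (k := k) ?_ ?_
    · exact hodd.of_dvd_nat ((orderOf_map_dvd π _).trans (dvd_of_eq (orderOf_mk x hx)))
    · rw [hπ, ← map_pow, show (⟨h, le_sup_left (a := H) hh⟩ : ↥(pair H g)) ^ 2 ^ k = 1 from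
        Subtype.ext (by simpa using congrArg Subtype.val hk), map_one]
  exact ⟨⟨x, hx⟩, (QuotientGroup.eq_one_iff _).1 h1, rfl⟩

theorem eq_one_of_mem_oddPart {g x : G} (hx : x ∈ oddPart H g) (hn : x ∈ normalizer (H : Set G)) :
    x = 1 := by
  have h1 : x ∈ H := (hs.closed g).le ⟨map_subtype_le _ hx, hn⟩
  exact mem_bot.1 ((hs.inf_oddPart g).le ⟨h1, hx⟩)

/-- `gHg⁻¹ = oHo⁻¹` with `o` in the odd part. -/
theorem exists_oddPart_conj (g : G) : ∃ o ∈ oddPart H g, o⁻¹ * g ∈ normalizer (H : Set G) := by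
  haveI : Fact (Nat.Prime 2) := ⟨Nat.prime_two⟩
  set T := pair H g
  obtain ⟨P, hP⟩ := (hs.pgroup.comap_subtype (K := T)).exists_le_sylow
  have hPH : ∀ y : T, y ∈ (P : Subgroup T) → (y : G) ∈ H := by
    intro y hy
    have hQ := (S3021.result H hs.pgroup hs.closed).1 ((P : Subgroup T).map T.subtype)
      (P.isPGroup'.map T.subtype) fun h hh =>
        ⟨⟨h, le_sup_left (a := H) hh⟩, hP hh, rfl⟩
    exact (hs.closed g).le ⟨y.2, hQ (le_normalizer ⟨y, hy, rfl⟩)⟩
  obtain ⟨x, hx⟩ := H39.exists_conj_le_sylow ((hs.pgroup.map (MulAut.conj g).toMonoidHom).comap_subtype (K := T)) P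
  have hn : (x : G) * g ∈ normalizer (H : Set G) := by
    refine H39.mem_normalizer_of_conj_mem fun h hh => ?_
    have h1 : g * h * g⁻¹ ∈ T := le_sup_right (a := H) (H39.conj_mem_map_conj hh)
    have := hPH _ (hx ⟨_, h1⟩ (H39.conj_mem_map_conj hh))
    simpa [mul_assoc] using this
  have hxs : (x : G) ∈ (H : Set G) * (oddPart H g : Set G) := by
    rw [← coe_mul_of_left_le_normalizer_right H _ ((le_sup_left : H ≤ pair H g).trans (hs.pair_le_normalizer g)),
      hs.sup_oddPart g]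
    exact x.2
  obtain ⟨h, hh, o, ho, hxe⟩ := hxs
  refine ⟨o⁻¹, inv_mem ho, ?_⟩
  have : o * g = h⁻¹ * ((x : G) * g) := by rw [← hxe]; simp [mul_assoc]
  rw [inv_inv, this]
  exact mul_mem (inv_mem (le_normalizer hh)) hn

theorem conj_mem_normalizer {g n : G} (hn : g⁻¹ * n * g ∈ normalizer (H : Set G)) :
    n ∈ normalizer ((H.map (MulAut.conj g).toMonoidHom : Subgroup G) : Set G) := by
  refine H39.mem_normalizer_of_conj_mem fun y hy => ?_
  rw [H39.mem_map_conj] at hy ⊢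
  have := (mem_normalizer_iff.1 hn _).1 hy
  simpa [mul_assoc] using this

/-- The normaliser controls the fusion of its own elements. -/
theorem conj_eq {g m n o : G} (hm : m ∈ normalizer (H : Set G))
    (hm' : g * m * g⁻¹ ∈ normalizer (H : Set G)) (ho : o ∈ oddPart H g) (hg : o⁻¹ * g = n)
    (hn : n ∈ normalizer (H : Set G)) : g * m * g⁻¹ = n * m * n⁻¹ := by
  set m' := g * m * g⁻¹ with hm'def
  have hT : ∀ z : G, z ∈ normalizer (H : Set G) →
      z ∈ normalizer ((H.map (MulAut.conj g).toMonoidHom : Subgroup G) : Set G) →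
      ∀ y ∈ pair H g, z * y * z⁻¹ ∈ pair H g := by
    intro z hz hz' y hy
    have : (pair H g).map (MulAut.conj z).toMonoidHom ≤ pair H g := by
      rw [Subgroup.map_sup, H39.mem_normalizer_iff_map_conj.1 hz, H39.mem_normalizer_iff_map_conj.1 hz']
    exact this ⟨y, hy, rfl⟩
  have h1 : m'⁻¹ * o⁻¹ * m' ∈ oddPart H g := by
    refine hs.mem_oddPart_of_odd ?_ ?_
    · have hmem : g⁻¹ * m'⁻¹ * g ∈ normalizer (H : Set G) := by
        have : g⁻¹ * m'⁻¹ * g = m⁻¹ := by rw [hm'def]; group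
        rw [this]; exact inv_mem hm
      have := hT m'⁻¹ (inv_mem hm') (hs.conj_mem_normalizer hmem) o⁻¹ (inv_mem (map_subtype_le _ ho))
      simpa using this
    · have h := H39.orderOf_conj m'⁻¹ o⁻¹
      rw [inv_inv, orderOf_inv] at h
      rw [h]
      exact (hs.odd_oddPart g).of_dvd_nat (Subgroup.orderOf_dvd_natCard _ ho)
  have h2 : m'⁻¹ * (n * m * n⁻¹) = m'⁻¹ * o⁻¹ * m' * o := by
    rw [← hg, hm'def]; group
  have h3 : m'⁻¹ * (n * m * n⁻¹) = 1 := by
    refine hs.eq_one_of_mem_oddPart (g := g) (h2 ▸ mul_mem h1 ho) ?_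
    exact mul_mem (inv_mem hm') (mul_mem (mul_mem hn hm) (inv_mem hn))
  exact inv_mul_eq_one.1 h3

theorem exists_conj_eq {g m : G} (hm : m ∈ normalizer (H : Set G))
    (hm' : g * m * g⁻¹ ∈ normalizer (H : Set G)) :
    ∃ n ∈ normalizer (H : Set G), g * m * g⁻¹ = n * m * n⁻¹ := by
  obtain ⟨o, ho, hn⟩ := hs.exists_oddPart_conj g
  exact ⟨_, hn, hs.conj_eq hm hm' ho rfl hn⟩

theorem not_dvd_index : ¬ 2 ∣ (normalizer (H : Set G)).index := by
  haveI : Fact (Nat.Prime 2) := ⟨Nat.prime_two⟩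
  obtain ⟨P, hP⟩ := hs.pgroup.exists_le_sylow
  have hle := ((S3021.result H hs.pgroup hs.closed).2 P hP).1
  exact fun h => P.not_dvd_index (h.trans (index_dvd_of_le hle))

/-- The elements of `H` of order at most 2. -/
def omega : Subgroup G where
  carrier := {x | x ∈ H ∧ x ^ 2 = 1}
  one_mem' := ⟨H.one_mem, one_pow 2⟩
  mul_mem' := fun {a b} ha hb => ⟨H.mul_mem ha.1 hb.1, by
    rw [(show Commute a b from hs.commute ha.1 hb.1).mul_pow, ha.2, hb.2, one_mul]⟩
  inv_mem' := fun {a} ha => ⟨H.inv_mem ha.1, by rw [inv_pow, ha.2, inv_one]⟩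

theorem omega_le : hs.omega ≤ H := fun _ hx => hx.1

theorem omega_elementary : Cfsg.IsElementaryAbelian 2 hs.omega :=
  ⟨⟨⟨fun a b => Subtype.ext (hs.commute a.2.1 b.2.1)⟩⟩, fun _ hx => hx.2⟩

theorem mem_omega {x : G} (hx : x ∈ H) (h : orderOf x = 2) : x ∈ hs.omega :=
  ⟨hx, by rw [← h, pow_orderOf_eq_one]⟩

theorem orderOf_omega {x : G} (hx : x ∈ hs.omega) (h1 : x ≠ 1) : orderOf x = 2 :=
  orderOf_eq_prime hx.2 h1

/-- The centralisers of the involutions of `H` and the normaliser generate. -/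
theorem eq_top_of_le {M : Subgroup G} (h4 : 4 ≤ Nat.card hs.omega)
    (hN : normalizer (H : Set G) ≤ M)
    (hC : ∀ t ∈ hs.omega, t ≠ 1 → centralizer ({t} : Set G) ≤ M) : M = ⊤ := by
  haveI : Fact (Nat.Prime 2) := ⟨Nat.prime_two⟩
  refine eq_top_iff.2 fun g _ => ?_
  obtain ⟨o, ho, hn⟩ := hs.exists_oddPart_conj g
  have hoM : oddPart H g ≤ M := by
    refine H40.le_of_hyperplanes hs.omega_elementary ?_
      (hs.omega_le.trans ((le_sup_left : H ≤ pair H g).trans (hs.pair_le_normalizer g))) ?_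
    · exact fun h => Nat.not_even_iff_odd.2 (hs.odd_oddPart g) (even_iff_two_dvd.2 h)
    · intro B hB hi
      obtain ⟨b, hb, hb1⟩ := B.bot_or_exists_ne_one.resolve_left fun h => by
        rw [h, relIndex_bot_left] at hi
        omega
      exact inf_le_right.trans ((centralizer_le (Set.singleton_subset_iff.2 hb)).trans (hC b (hB hb) hb1))
  have := mul_mem (hoM ho) (hN hn)
  rwa [mul_inv_cancel_left] at this

end Setup

/-- `x` is an involution of `gHg⁻¹`. -/
abbrev Vert (H : Subgroup G) (g x : G) : Prop := orderOf x = 2 ∧ g⁻¹ * x * g ∈ H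

/-- The product of the two involutions has odd order. -/
abbrev Rel (x y : G) : Prop := Odd (orderOf (x * y))

theorem rel_refl {x : G} (hx : orderOf x = 2) : Rel x x := by
  rw [Rel, H39.mul_self_of_orderOf_eq_two hx, orderOf_one]
  exact odd_one

theorem rel_symm {x y : G} (h : Rel x y) : Rel y x := by
  have h1 := H39.orderOf_conj y (x * y)
  rw [show y * (x * y) * y⁻¹ = y * x by group] at h1
  rw [Rel, h1]
  exact h

theorem rel_conj {x y : G} (c : G) (h : Rel x y) : Rel (c * x * c⁻¹) (c * y * c⁻¹) := by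
  rw [Rel, show c * x * c⁻¹ * (c * y * c⁻¹) = c * (x * y) * c⁻¹ by group, H39.orderOf_conj]
  exact h

theorem vert_conj {H : Subgroup G} {g x : G} (c : G) (h : Vert H g x) :
    Vert H (c * g) (c * x * c⁻¹) :=
  ⟨(H39.orderOf_conj c x).trans h.1, by
    rw [show (c * g)⁻¹ * (c * x * c⁻¹) * (c * g) = g⁻¹ * x * g by group]; exact h.2⟩

theorem vert_one_iff {H : Subgroup G} {x : G} : Vert H 1 x ↔ orderOf x = 2 ∧ x ∈ H := by
  simp [Vert]

theorem vert_of_normalizer {H : Subgroup G} {n x : G} (hn : n ∈ normalizer (H : Set G))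
    (h : Vert H n x) : x ∈ H := by
  have := (mem_normalizer_iff.1 hn _).1 h.2
  simpa [mul_assoc] using this

namespace Setup

variable {H : Subgroup G} (hs : Setup H)
include hs

theorem match_base (g : G) :
    ∃ w : G, g⁻¹ * w ∈ normalizer (H : Set G) ∧
      ∀ e, Vert H 1 e → Vert H g (w * e * w⁻¹) ∧ Rel e (w * e * w⁻¹) := by
  obtain ⟨o, ho, hn⟩ := hs.exists_oddPart_conj g
  refine ⟨o, by simpa using inv_mem hn, fun e he => ?_⟩
  rw [vert_one_iff] at he
  refine ⟨⟨(H39.orderOf_conj o e).trans he.1, ?_⟩, ?_⟩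
  · have := (mem_normalizer_iff.1 (inv_mem hn) e).1 he.2
    simpa [mul_assoc] using this
  · have hmem : e * (o * e * o⁻¹) ∈ oddPart H g := by
      have h1 : e * o * e⁻¹ ∈ oddPart H g :=
        (mem_normalizer_iff.1 (hs.pair_le_normalizer g (le_sup_left (a := H) he.2)) o).1 ho
      have := mul_mem h1 (inv_mem ho)
      rw [H39.inv_eq_of_orderOf_eq_two he.1] at this
      simpa [mul_assoc] using this
    exact (hs.odd_oddPart g).of_dvd_nat (Subgroup.orderOf_dvd_natCard _ hmem)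

theorem unique_base {g e f f' : G} (he : Vert H 1 e) (hf : Vert H g f) (hf' : Vert H g f')
    (h : Rel e f) (h' : Rel e f') : f = f' := by
  rw [vert_one_iff] at he
  have hin : ∀ y, Vert H g y → y ∈ pair H g := fun y hy =>
    le_sup_right (a := H) (H39.mem_map_conj.2 hy.2)
  have heT : e ∈ pair H g := le_sup_left (a := H) he.2
  have h1 := hs.mem_oddPart_of_odd (mul_mem heT (hin f hf)) h
  have h2 := hs.mem_oddPart_of_odd (mul_mem heT (hin f' hf')) h'
  have h3 : f⁻¹ * f' ∈ oddPart H g := by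
    have := mul_mem (inv_mem h1) h2
    rwa [show (e * f)⁻¹ * (e * f') = f⁻¹ * f' by group] at this
  have h4 : g⁻¹ * (f⁻¹ * f') * g ∈ H := by
    have := mul_mem (inv_mem hf.2) hf'.2
    simpa [mul_assoc] using this
  obtain ⟨k, hk⟩ := hs.pgroup ⟨_, h4⟩
  refine inv_mul_eq_one.1 (eq_one_of_odd_of_two_pow (k := k)
    ((hs.odd_oddPart g).of_dvd_nat (Subgroup.orderOf_dvd_natCard _ h3)) ?_)
  have hk' : (g⁻¹ * (f⁻¹ * f') * g) ^ 2 ^ k = 1 := by simpa using congrArg Subtype.val hk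
  have := conj_pow (i := 2 ^ k) (a := g⁻¹) (b := f⁻¹ * f')
  rw [inv_inv, hk'] at this
  exact (mul_eq_left (a := g⁻¹)).1 ((mul_eq_one_iff_eq_inv.1 this.symm))

theorem vert_unique {u v e f f' : G} (he : Vert H u e) (hf : Vert H v f) (hf' : Vert H v f')
    (h : Rel e f) (h' : Rel e f') : f = f' := by
  have he' : Vert H 1 (u⁻¹ * e * u⁻¹⁻¹) := by simpa using vert_conj u⁻¹ he
  have := hs.unique_base he' (vert_conj u⁻¹ hf) (vert_conj u⁻¹ hf') (rel_conj _ h) (rel_conj _ h')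
  exact mul_left_cancel (mul_right_cancel this)

theorem matcher (u v : G) :
    ∃ w : G, v⁻¹ * w * u ∈ normalizer (H : Set G) ∧
      ∀ e, Vert H u e → Vert H v (w * e * w⁻¹) ∧ Rel e (w * e * w⁻¹) := by
  obtain ⟨o, hn, ho⟩ := hs.match_base (u⁻¹ * v)
  refine ⟨u * o * u⁻¹, by simpa [mul_assoc] using hn, fun e he => ?_⟩
  have he' : Vert H 1 (u⁻¹ * e * u) := by simpa using vert_conj u⁻¹ he
  obtain ⟨h1, h2⟩ := ho _ he'
  have h1' := vert_conj u h1
  have h2' := rel_conj u h2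
  simp only [mul_inv_cancel_left] at h1'
  constructor
  · simpa [mul_assoc] using h1'
  · simpa [mul_assoc] using h2'

theorem match_exists {u e : G} (v : G) (he : Vert H u e) : ∃ f, Vert H v f ∧ Rel e f :=
  let ⟨w, _, hw⟩ := hs.matcher u v
  ⟨w * e * w⁻¹, hw e he⟩

end Setup

/-- Odd products compose through `gHg⁻¹`. -/
abbrev Good (H : Subgroup G) (g : G) : Prop :=
  ∀ e f k, Vert H 1 e → Vert H g f → Rel e f → (∃ v, Vert H v k) → Rel f k → Rel e k

namespace Setup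

variable {H : Subgroup G} (hs : Setup H)

theorem good_at {g : G} (hg : Good H g) {u e f k : G} (he : Vert H u e)
    (hf : Vert H (u * g) f) (hef : Rel e f) (hk : ∃ v, Vert H v k) (hfk : Rel f k) : Rel e k := by
  have he' : Vert H 1 (u⁻¹ * e * u⁻¹⁻¹) := by simpa using vert_conj u⁻¹ he
  have hf' : Vert H g (u⁻¹ * f * u⁻¹⁻¹) := by simpa using vert_conj u⁻¹ hf
  obtain ⟨v, hv⟩ := hk
  have h := rel_conj u (hg _ _ _ he' hf' (rel_conj _ hef) ⟨_, vert_conj u⁻¹ hv⟩ (rel_conj _ hfk))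
  simpa [mul_assoc] using h

include hs

theorem good_mul {g h : G} (hg : Good H g) (hh : Good H h) : Good H (g * h) := by
  intro e f k he hf hef hk hfk
  obtain ⟨f₁, hf₁, hef₁⟩ := hs.match_exists g he
  obtain ⟨f', hf', hf₁f'⟩ := hs.match_exists (g * h) hf₁
  obtain rfl : f' = f := hs.vert_unique he hf' hf (hg e f₁ f' he hf₁ hef₁ ⟨_, hf'⟩ hf₁f') hef
  exact hg e f₁ k he hf₁ hef₁ hk (good_at hh hf₁ hf hf₁f' hk hfk)

theorem good_inv {g : G} (hg : Good H g) : Good H g⁻¹ := by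
  intro e f k he hf hef hk hfk
  obtain ⟨v, hv⟩ := hk
  obtain ⟨k₂, hk₂, hek₂⟩ := hs.match_exists v he
  have he1 : Vert H (g⁻¹ * g) e := by simpa using he
  have hfk₂ := good_at hg hf he1 (rel_symm hef) ⟨_, hk₂⟩ hek₂
  obtain rfl : k₂ = k := hs.vert_unique hf hk₂ hv hfk₂ hfk
  exact hek₂

theorem good_normalizer {n : G} (hn : n ∈ normalizer (H : Set G)) : Good H n := by
  intro e f k he hf hef _ hfk
  have hf1 : Vert H 1 f := vert_one_iff.2 ⟨hf.1, vert_of_normalizer hn hf⟩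
  rwa [hs.vert_unique he he hf1 (rel_refl he.1) hef]

/-- The elements composing odd products form a subgroup. -/
def goodSubgroup : Subgroup G where
  carrier := {g | Good H g}
  one_mem' := hs.good_normalizer (one_mem _)
  mul_mem' := hs.good_mul
  inv_mem' := hs.good_inv

/-- When no element of the normaliser fixes some involution and moves another, odd products
compose along the centraliser of an involution. -/
theorem good_centralizer
    (hfix : ∀ a ∈ hs.omega, a ≠ 1 → ∀ n ∈ normalizer (H : Set G), n * a * n⁻¹ = a →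
      ∀ e ∈ hs.omega, n * e * n⁻¹ = e)
    {a : G} (ha : a ∈ hs.omega) (ha1 : a ≠ 1) {g : G} (hg : g ∈ centralizer ({a} : Set G)) :
    Good H g := by
  intro e f k he hf hef hk hfk
  obtain ⟨h, hkh⟩ := hk
  obtain ⟨w₁, hn₁, hw₁⟩ := hs.matcher 1 g
  obtain ⟨w₂, hn₂, hw₂⟩ := hs.matcher g h
  obtain ⟨w₃, hn₃, hw₃⟩ := hs.matcher 1 h
  have hga : g * a = a * g := mem_centralizer_singleton_iff.1 hg
  have ha2 : orderOf a = 2 := hs.orderOf_omega ha ha1
  have haV1 : Vert H 1 a := vert_one_iff.2 ⟨ha2, ha.1⟩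
  have haVg : Vert H g a := ⟨ha2, by rw [mul_assoc, ← hga, inv_mul_cancel_left]; exact ha.1⟩
  have hw₁a : w₁ * a * w₁⁻¹ = a :=
    hs.vert_unique haV1 (hw₁ a haV1).1 haVg (hw₁ a haV1).2 (rel_refl ha2)
  have hw₂a : w₂ * a * w₂⁻¹ = w₃ * a * w₃⁻¹ :=
    hs.vert_unique haV1 (hw₂ a haVg).1 (hw₃ a haV1).1 (hw₂ a haVg).2 (hw₃ a haV1).2
  have hq : w₃⁻¹ * w₂ * w₁ ∈ normalizer (H : Set G) := by
    have := mul_mem (mul_mem (inv_mem hn₃) hn₂) hn₁
    simpa [mul_assoc] using this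
  have hqa : w₃⁻¹ * w₂ * w₁ * a * (w₃⁻¹ * w₂ * w₁)⁻¹ = a := by
    calc _ = w₃⁻¹ * (w₂ * (w₁ * a * w₁⁻¹) * w₂⁻¹) * w₃ := by group
      _ = a := by rw [hw₁a, hw₂a]; group
  have hqe := hfix a ha ha1 _ hq hqa e (hs.mem_omega (vert_one_iff.1 he).2 he.1)
  have hfe : f = w₁ * e * w₁⁻¹ := hs.vert_unique he hf (hw₁ e he).1 hef (hw₁ e he).2
  have hkf : k = w₂ * f * w₂⁻¹ := hs.vert_unique hf hkh (hw₂ f hf).1 hfk (hw₂ f hf).2
  have : k = w₃ * e * w₃⁻¹ := by
    calc k = w₃ * (w₃⁻¹ * w₂ * w₁ * e * (w₃⁻¹ * w₂ * w₁)⁻¹) * w₃⁻¹ := by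
          rw [hkf, hfe]; group
      _ = _ := by rw [hqe]
  rw [this]
  exact (hw₃ e he).2

/-- If no element of the normaliser fixes some involution and moves another, but some element moves
an involution, then `H` lies in a proper normal subgroup. -/
theorem exists_normal_of_regular (h4 : 4 ≤ Nat.card hs.omega)
    (hfix : ∀ a ∈ hs.omega, a ≠ 1 → ∀ n ∈ normalizer (H : Set G), n * a * n⁻¹ = a →
      ∀ e ∈ hs.omega, n * e * n⁻¹ = e)
    (hmove : ∃ a ∈ hs.omega, ∃ n ∈ normalizer (H : Set G), n * a * n⁻¹ ≠ a) :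
    ∃ M : Subgroup G, M.Normal ∧ H ≤ M ∧ M ≠ ⊤ := by
  have hgood : hs.goodSubgroup = ⊤ :=
    hs.eq_top_of_le h4 (fun n hn => hs.good_normalizer hn)
      fun t ht ht1 g hg => hs.good_centralizer hfix ht ht1 hg
  have trans : ∀ {x y z : G}, (∃ u, Vert H u x) → (∃ v, Vert H v y) → (∃ v, Vert H v z) →
      Rel x y → Rel y z → Rel x z := by
    rintro x y z ⟨u, hu⟩ ⟨v, hv⟩ hz hxy hyz
    have hg : u⁻¹ * v ∈ hs.goodSubgroup := hgood ▸ mem_top _
    exact good_at hg hu (by rwa [mul_inv_cancel_left]) hxy hz hyz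
  have hI : ∀ (c x : G), (∃ u, Vert H u x) → ∃ u, Vert H u (c * x * c⁻¹) :=
    fun c x ⟨u, hu⟩ => ⟨c * u, vert_conj c hu⟩
  let M : Subgroup G :=
    { carrier := {g | ∀ x, (∃ u, Vert H u x) → Rel (g * x * g⁻¹) x}
      one_mem' := fun x ⟨u, hu⟩ => by simpa using rel_refl hu.1
      mul_mem' := fun {g h} hg hh x hx => by
        have h1 := hg _ (hI h x hx)
        have h2 := trans (hI g _ (hI h x hx)) (hI h x hx) hx h1 (hh x hx)
        simpa [mul_assoc] using h2
      inv_mem' := fun {g} hg x hx => by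
        have h1 := rel_symm (hg _ (hI g⁻¹ x hx))
        simpa [mul_assoc] using h1 }
  refine ⟨M, ⟨fun g hg c x hx => ?_⟩, fun h hh x hx => ?_, fun htop => ?_⟩
  · have h1 := rel_conj c (hg _ (hI c⁻¹ x hx))
    simpa [mul_assoc] using h1
  · obtain ⟨u, hu⟩ := hx
    obtain ⟨e, he, hxe⟩ := hs.match_exists 1 hu
    have heH := (vert_one_iff.1 he).2
    have h1 := rel_conj h hxe
    rw [show h * e * h⁻¹ = e by rw [hs.commute hh heH, mul_inv_cancel_right]] at h1
    exact trans (hI h x ⟨u, hu⟩) ⟨1, he⟩ ⟨u, hu⟩ h1 (rel_symm hxe)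
  · obtain ⟨a, ha, n, hn, hna⟩ := hmove
    have ha1 : a ≠ 1 := fun h => hna (by rw [h]; simp)
    have h := (htop ▸ mem_top n : n ∈ M) a ⟨1, vert_one_iff.2 ⟨hs.orderOf_omega ha ha1, ha.1⟩⟩
    have hb : n * a * n⁻¹ ∈ hs.omega :=
      ⟨(mem_normalizer_iff.1 hn a).1 ha.1, by rw [conj_pow, ha.2, mul_one, mul_inv_cancel]⟩
    have hab : (n * a * n⁻¹ * a) ^ 2 ^ 1 = 1 := by
      rw [pow_one]; exact hs.omega_elementary.2 _ (mul_mem hb ha)
    have h1 := eq_one_of_odd_of_two_pow h hab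
    exact hna ((mul_eq_one_iff_eq_inv.1 h1).trans (H39.inv_eq_of_orderOf_eq_two (hs.orderOf_omega ha ha1)))

/-- A transfer computation. -/
theorem transfer_eq {A : Type*} [CommGroup A] (φ : ↥(normalizer (H : Set G)) →* A)
    (n : ↥(normalizer (H : Set G))) :
    MonoidHom.transfer φ (n : G) = φ n ^ (normalizer (H : Set G)).index := by
  classical
  let N : Subgroup G := normalizer (H : Set G)
  show MonoidHom.transfer φ (n : G) = φ n ^ N.index
  let := N.fintypeQuotientOfFiniteIndex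
  let : Fintype (Quotient (MulAction.orbitRel (zpowers (n : G)) (G ⧸ N))) := Fintype.ofFinite _
  rw [MonoidHom.transfer_eq_prod_quotient_orbitRel_zpowers_quot φ (n : G),
    Subgroup.index_eq_sum_minimalPeriod N (n : G), ← Finset.prod_pow_eq_pow_sum Finset.univ _ (φ n)]
  refine Finset.prod_congr rfl fun q _ => ?_
  set k := Function.minimalPeriod ((n : G) • ·) q.out
  have hmem := QuotientGroup.out_conj_pow_minimalPeriod_mem N (n : G) q.out
  obtain ⟨c, hc, hc'⟩ := hs.exists_conj_eq (g := q.out.out⁻¹) (m := (n : G) ^ k) (pow_mem n.2 k)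
    (by rw [inv_inv]; exact hmem)
  rw [inv_inv] at hc'
  rw [show (⟨q.out.out⁻¹ * (n : G) ^ k * q.out.out, hmem⟩ : ↥N) = ⟨c, hc⟩ * n ^ k * (⟨c, hc⟩ : ↥N)⁻¹ from
    Subtype.ext (by simpa using hc'), map_mul, map_mul, map_inv, map_pow, mul_inv_cancel_comm]

end Setup

end Cfsg.Agent.H30.ExtremelyClosed
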