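import Cfsg.Agent.H30.ExtremelyClosed
import Cfsg.Agent.H30.ConnectedCores
import Cfsg.Agent.H61.ZStarInst
import Cfsg.Agent.H61.ZStarCor2
import Mathlib.GroupTheory.Perm.Sign

/-!
An extremely closed abelian 2-subgroup `H` of `G` satisfies `G = N(H) O(G)` (modulo the solvability
of groups of odd order, used only for 2-rank at least 3).

* An involution of `H` fixed by the normaliser is isolated: `Z*`.
* Rank at least 3: `a ↦ O(C(a))` is a complete signalizer functor.
* Rank 2: either the sign of the action on the three involutions transfers to `G`, or the relation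
  "odd product" is an equivalence relation on the conjugates of the involutions, permuted by `G`.
-/

set_option autoImplicit false
set_option linter.unusedSectionVars false

namespace Cfsg.Agent.H30.ExtremelyClosed

open Subgroup
open scoped Pointwise

universe u

variable {G : Type u} [Group G] [Finite G]

theorem setup_subgroupOf {H M : Subgroup G} (hs : Setup H) (hHM : H ≤ M) : Setup (H.subgroupOf M) where
  pgroup := hs.pgroup.comap_subtype
  comm := ⟨⟨fun a b => Subtype.ext (Subtype.ext (hs.commute a.2 b.2))⟩⟩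
  closed g := by
    refine le_antisymm ?_ (le_inf le_sup_left le_normalizer)
    rintro x ⟨hx, hxn⟩
    have h1 : (x : G) ∈ pair H g := by
      have h2 : H.subgroupOf M ⊔ (H.subgroupOf M).map (MulAut.conj g).toMonoidHom ≤
          (pair H g).subgroupOf M := by
        refine sup_le (fun y hy => le_sup_left (a := H) hy) ?_
        rintro _ ⟨y, hy, rfl⟩
        exact le_sup_right (a := H) (H39.conj_mem_map_conj (g := (g : G)) hy)
      exact h2 hx
    have h3 : (x : G) ∈ normalizer (H : Set G) := by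
      refine H39.mem_normalizer_of_conj_mem fun h hh => ?_
      exact (mem_normalizer_iff.1 hxn ⟨h, hHM hh⟩).1 hh
    exact (hs.closed g).le ⟨h1, h3⟩

theorem odd_card_sup {A B : Subgroup G} [A.Normal] (hA : Odd (Nat.card A)) (hB : Odd (Nat.card B)) :
    Odd (Nat.card ↥(B ⊔ A)) := by
  have h := relIndex_mul_relIndex (⊥ : Subgroup G) A (B ⊔ A) bot_le le_sup_right
  rw [relIndex_bot_left, relIndex_bot_left, relIndex_sup_right] at h
  rw [← h]
  exact hA.mul (hB.of_dvd_nat (relIndex_dvd_card A B))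

theorem le_core {X C : Subgroup G} (hXC : X ≤ C) (hn : C ≤ normalizer (X : Set G))
    (hodd : Odd (Nat.card X)) : X ≤ (Cfsg.oddCore C).map C.subtype := by
  have : (X.subgroupOf C).Normal := (normal_subgroupOf_iff_le_normalizer hXC).2 hn
  intro x hx
  exact ⟨⟨x, hXC hx⟩, Cores.le_oddCore (N := X.subgroupOf C)
    (by rwa [Nat.card_congr (subgroupOfEquivOfLe hXC).toEquiv]) hx, rfl⟩

theorem odd_card_sup_of_le_normalizer {A B : Subgroup G} (h : B ≤ normalizer (A : Set G))
    (hA : Odd (Nat.card A)) (hB : Odd (Nat.card B)) : Odd (Nat.card ↥(B ⊔ A)) := by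
  set M := normalizer (A : Set G)
  have hAM : A ≤ M := le_normalizer
  have h1 : Odd (Nat.card ↥(B.subgroupOf M ⊔ A.subgroupOf M)) := by
    have : (A.subgroupOf M).Normal := (normal_subgroupOf_iff_le_normalizer hAM).2 le_rfl
    refine odd_card_sup ?_ ?_
    · rwa [Nat.card_congr (subgroupOfEquivOfLe hAM).toEquiv]
    · rwa [Nat.card_congr (subgroupOfEquivOfLe h).toEquiv]
  rwa [← subgroupOf_sup h hAM, Nat.card_congr (subgroupOfEquivOfLe (sup_le h hAM)).toEquiv] at h1

section Reductions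

variable {H : Subgroup G} (hs : Setup H)
  (hsub : ∀ M : Subgroup G, H ≤ M → M ≠ ⊤ →
    M ≤ (normalizer (H : Set G) ⊓ M) ⊔ (Cfsg.oddCore M).map M.subtype)
include hs hsub

theorem of_normal {M : Subgroup G} (hM : M.Normal) (hHM : H ≤ M) (hne : M ≠ ⊤) :
    normalizer (H : Set G) ⊔ Cfsg.oddCore G = ⊤ := by
  have h1 : M ≤ normalizer (H : Set G) ⊔ Cfsg.oddCore G :=
    (hsub M hHM hne).trans (sup_le_sup inf_le_left (Cores.map_pPrimeCore_le_of_normal M))
  refine eq_top_iff.2 fun g _ => ?_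
  obtain ⟨o, ho, hn⟩ := hs.exists_oddPart_conj g
  have hpM : pair H g ≤ M := sup_le hHM (by
    rintro _ ⟨x, hx, rfl⟩
    exact hM.conj_mem x (hHM hx) g)
  have := mul_mem (h1 (hpM (map_subtype_le _ ho))) (mem_sup_left (T := Cfsg.oddCore G) hn)
  rwa [mul_inv_cancel_left] at this

/-- An involution of `H` fixed by the normaliser, but not central. -/
theorem of_fixed {t : G} (ht : orderOf t = 2) (htH : t ∈ H)
    (hfix : ∀ n ∈ normalizer (H : Set G), n * t * n⁻¹ = t) (hc : centralizer ({t} : Set G) ≠ ⊤) :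
    normalizer (H : Set G) ⊔ Cfsg.oddCore G = ⊤ := by
  have hiso : Cfsg.IsIsolatedInvolution t := by
    refine ⟨ht, fun g hg => ?_⟩
    obtain ⟨o, ho, hn⟩ := hs.exists_oddPart_conj g
    have hu : g * t * g⁻¹ = o * t * o⁻¹ := by
      conv_rhs => rw [← hfix _ hn]
      group
    have hmem : t * (g * t * g⁻¹) ∈ oddPart H g := by
      rw [hu]
      have h1 := mul_mem ((mem_normalizer_iff.1 (hs.pair_le_normalizer g (le_sup_left (a := H) htH)) o).1 ho)
        (inv_mem ho)
      rw [H39.inv_eq_of_orderOf_eq_two ht] at h1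
      simpa [mul_assoc] using h1
    have h2 : (t * (g * t * g⁻¹)) ^ 2 ^ 1 = 1 := by
      rw [pow_one, hg.mul_pow, conj_pow, ← ht, pow_orderOf_eq_one]
      group
    have h3 := eq_one_of_odd_of_two_pow ((hs.odd_oddPart g).of_dvd_nat
      (Subgroup.orderOf_dvd_natCard _ hmem)) h2
    exact (eq_inv_of_mul_eq_one_right h3).trans (H39.inv_eq_of_orderOf_eq_two ht)
  set O := Cfsg.oddCore G
  have hz := H61.zStar_cor_soluble H61.zStarTheorem t hiso
  set C := centralizer ({t} : Set G)
  have htop : C ⊔ O = ⊤ := by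
    refine eq_top_iff.2 fun g _ => ?_
    have hmem : (g * t * g⁻¹) * t ∈ O := by
      have h := O.inv_mem (hz g)
      rw [show (t * g * t⁻¹ * g⁻¹)⁻¹ = g * t * g⁻¹ * t⁻¹ by group, H39.inv_eq_of_orderOf_eq_two ht] at h
      exact h
    obtain ⟨k, hk, -, -, hkc⟩ := H39.exists_conj_of_odd ht ((H39.orderOf_conj g t).trans ht)
      (Cores.odd_card_oddCore.of_dvd_nat (Subgroup.orderOf_dvd_natCard _ hmem))
    have hkO : k ∈ O := zpowers_le.2 hmem hk
    have hkg : k⁻¹ * g ∈ C := by
      refine mem_centralizer_singleton_iff.2 ?_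
      calc k⁻¹ * g * t = k⁻¹ * (g * t * g⁻¹) * g := by group
        _ = t * (k⁻¹ * g) := by rw [← hkc]; group
    have := mul_mem (mem_sup_right (S := C) hkO) (mem_sup_left (T := O) hkg)
    rwa [mul_inv_cancel_left] at this
  have hHC : H ≤ C := fun h hh => mem_centralizer_singleton_iff.2 (hs.commute hh htH)
  set X := (Cfsg.oddCore C).map C.subtype with hX
  have hXo : Odd (Nat.card X) := by
    rw [hX, card_map_of_injective C.subtype_injective]
    exact Cores.odd_card_oddCore
  have : O.Normal := normal_of_characteristic O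
  have hXn : (X ⊔ O).Normal := by
    rw [← normalizer_eq_top_iff, eq_top_iff, ← htop]
    refine sup_le (fun c hc => ?_) ((le_sup_right : O ≤ X ⊔ O).trans le_normalizer)
    refine mem_normalizer_iff_map_conj_eq.2 ?_
    rw [Subgroup.map_sup, mem_normalizer_iff_map_conj_eq.1 (Components.le_normalizer_map_subtype _ hc),
      mem_normalizer_iff_map_conj_eq.1 (show c ∈ normalizer (O : Set G) by rw [normalizer_eq_top_iff.2 this]; trivial)]
  have hXle : X ≤ O := le_sup_left.trans (Cores.le_oddCore (odd_card_sup Cores.odd_card_oddCore hXo))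
  refine eq_top_iff.2 (htop.ge.trans (sup_le ?_ le_sup_right))
  exact (hsub C hHC hc).trans (sup_le_sup inf_le_left hXle)

/-- 2-rank at least 3: the cores of the involution centralisers generate an odd subgroup. -/
theorem of_rank_three (hFT : ∀ K : Subgroup G, Odd (Nat.card K) → Group.IsSolvable K)
    (h8 : 8 ≤ Nat.card hs.omega) (hc : ∀ t ∈ hs.omega, t ≠ 1 → centralizer ({t} : Set G) ≠ ⊤) :
    normalizer (H : Set G) ⊔ Cfsg.oddCore G = ⊤ := by
  haveI : Fact (Nat.Prime 2) := ⟨Nat.prime_two⟩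
  let th : G → Subgroup G := fun a => Cfsg.centralizerPPrimeCore 2 a
  set N := normalizer (H : Set G) with hN
  have hCn : ∀ a : G, centralizer ({a} : Set G) ≤ normalizer (th a : Set G) := fun a =>
    Components.le_normalizer_map_subtype _
  have hthodd : ∀ a : G, Odd (Nat.card (th a)) := fun a =>
    Nat.not_even_iff_odd.1 fun he => H47.not_dvd_centralizerPPrimeCore a he.two_dvd
  have hHC : ∀ t ∈ hs.omega, H ≤ centralizer ({t} : Set G) := fun t ht h hh =>
    mem_centralizer_singleton_iff.2 (hs.commute hh ht.1)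
  have hfac : ∀ t ∈ hs.omega, t ≠ 1 →
      centralizer ({t} : Set G) ≤ (N ⊓ centralizer ({t} : Set G)) ⊔ th t := fun t ht ht1 =>
    hsub _ (hHC t ht) (hc t ht ht1)
  set CH := centralizer (H : Set G) with hCH
  set OH := (Cfsg.oddCore CH).map CH.subtype with hOH
  have hCHle : ∀ t ∈ hs.omega, CH ≤ centralizer ({t} : Set G) := fun t ht =>
    centralizer_le (Set.singleton_subset_iff.2 ht.1)
  have hNOH : N ≤ normalizer (OH : Set G) := by
    refine Components.le_normalizer_map_characteristic _ fun n hn => ?_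
    refine H39.mem_normalizer_of_conj_mem fun c hc => mem_centralizer_iff.2 fun h hh => ?_
    have h1 := mem_centralizer_iff.1 hc (n⁻¹ * h * n) (by
      simpa using (mem_normalizer_iff.1 (inv_mem hn) h).1 hh)
    calc h * (n * c * n⁻¹) = n * (n⁻¹ * h * n * c) * n⁻¹ := by group
      _ = n * c * n⁻¹ * h := by rw [h1]; group
  have hOHle : ∀ b ∈ hs.omega, b ≠ 1 → OH ≤ th b := by
    intro b hb hb1
    have hOHC : OH ≤ centralizer ({b} : Set G) := (map_subtype_le _).trans (hCHle b hb)
    refine le_sup_left.trans (le_core (X := OH ⊔ th b) (sup_le hOHC (map_subtype_le _)) ?_ ?_)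
    · refine (hfac b hb hb1).trans (sup_le (fun n hn => ?_) (le_sup_right.trans le_normalizer))
      refine mem_normalizer_iff_map_conj_eq.2 ?_
      rw [Subgroup.map_sup, mem_normalizer_iff_map_conj_eq.1 (hNOH hn.1),
        mem_normalizer_iff_map_conj_eq.1 (hCn b hn.2)]
    · refine odd_card_sup_of_le_normalizer (hOHC.trans (hCn b)) (hthodd b) ?_
      rw [hOH, card_map_of_injective CH.subtype_injective]
      exact Cores.odd_card_oddCore
  have hbal : ∀ a ∈ hs.omega, a ≠ 1 → ∀ b ∈ hs.omega, b ≠ 1 →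
      th a ⊓ centralizer ({b} : Set G) ≤ th b := by
    intro a ha ha1 b hb hb1 x hx
    set X := th a ⊓ centralizer ({b} : Set G) with hX
    set Y := X ⊔ th b with hY
    have hXb : X ≤ centralizer ({b} : Set G) := inf_le_right
    have hYodd : Odd (Nat.card Y) := odd_card_sup_of_le_normalizer (hXb.trans (hCn b)) (hthodd b)
      ((hthodd a).of_dvd_nat (card_dvd_of_le inf_le_left))
    have hYn : ∀ c, c ∈ centralizer ({a} : Set G) → c ∈ centralizer ({b} : Set G) →
        c ∈ normalizer (Y : Set G) := by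
      intro c hca hcb
      refine mem_normalizer_iff_map_conj_eq.2 ?_
      rw [hY, hX, Subgroup.map_sup, Subgroup.map_inf _ _ _ (MulAut.conj c).injective,
        mem_normalizer_iff_map_conj_eq.1 (hCn a hca), mem_normalizer_iff_map_conj_eq.1 (hCn b hcb),
        mem_normalizer_iff_map_conj_eq.1 (le_normalizer hcb)]
    have hxs : x ∈ ((N ⊓ centralizer ({b} : Set G) : Subgroup G) : Set G) * (th b : Set G) := by
      rw [← coe_mul_of_left_le_normalizer_right _ _ (inf_le_right.trans (hCn b))]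
      exact hfac b hb hb1 (hXb hx)
    obtain ⟨n, hn, o, ho, rfl⟩ := hxs
    have hnY : n ∈ Y := by
      have := mul_mem (mem_sup_left (T := th b) hx) (inv_mem (mem_sup_right (S := X) ho))
      rwa [mul_inv_cancel_right] at this
    have hnC : n ∈ CH := by
      refine mem_centralizer_iff.2 fun h hh => ?_
      have hh' : h ∈ normalizer (Y : Set G) := hYn h (hHC a ha hh) (hHC b hb hh)
      have h1 : n * h * n⁻¹ * h⁻¹ ∈ Y := by
        have := mul_mem hnY ((mem_normalizer_iff.1 hh' n⁻¹).1 (inv_mem hnY))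
        simpa [mul_assoc] using this
      have h2 : n * h * n⁻¹ * h⁻¹ ∈ H := mul_mem ((mem_normalizer_iff.1 hn.1 h).1 hh) (inv_mem hh)
      obtain ⟨k, hk⟩ := hs.pgroup ⟨_, h2⟩
      have h3 := eq_one_of_odd_of_two_pow (hYodd.of_dvd_nat (Subgroup.orderOf_dvd_natCard _ h1))
        (k := k) (by simpa using congrArg Subtype.val hk)
      rw [mul_inv_eq_one, mul_inv_eq_iff_eq_mul] at h3
      exact h3.symm
    have hZ : Y ⊓ CH ≤ OH := by
      refine le_core inf_le_right (fun c hc => ?_) (hYodd.of_dvd_nat (card_dvd_of_le inf_le_left))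
      refine mem_normalizer_iff_map_conj_eq.2 ?_
      rw [Subgroup.map_inf _ _ _ (MulAut.conj c).injective,
        mem_normalizer_iff_map_conj_eq.1 (hYn c (hCHle a ha hc) (hCHle b hb hc)),
        mem_normalizer_iff_map_conj_eq.1 (le_normalizer hc)]
    exact mul_mem (hOHle b hb hb1 (hZ ⟨hnY, hnC⟩)) ho
  have hsig : Cfsg.IsSolvableSignalizerFunctor 2 hs.omega th := by
    refine ⟨⟨fun a _ _ => H47.centralizerPPrimeCore_le a, fun a _ _ => H47.not_dvd_centralizerPPrimeCore a,
      fun a ha _ b hb x hx => ?_, hbal⟩, fun a _ _ => hFT _ (hthodd a)⟩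
    exact (mem_normalizer_iff.1 (hCn a (hHC a ha hb.1)) x).1 hx
  set W := Fusion.Signalizer.gen th hs.omega with hW
  have hWodd : Odd (Nat.card W) := Nat.not_even_iff_odd.1 fun he =>
    (Fusion.Signalizer.gen_eq hs.omega_elementary
      (Signalizer.complete_hyp_of_closed (Signalizer.twoColourClosed 2) G hs.omega th hs.omega_elementary
        (by simpa using h8) hsig) hs.omega_elementary le_rfl
      (le_trans (by norm_num) h8)).2 he.two_dvd
  have hthW : ∀ t ∈ hs.omega, t ≠ 1 → th t ≤ W := fun t ht ht1 =>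
    le_iSup (fun y : {y : G // y ∈ hs.omega ∧ y ≠ 1} => th y.1) ⟨t, ht, ht1⟩
  have hNW : N ≤ normalizer (W : Set G) := by
    intro n hn
    refine H39.mem_normalizer_of_conj_mem fun w hw => ?_
    refine (show W.map (MulAut.conj n).toMonoidHom ≤ W from ?_) ⟨w, hw, rfl⟩
    rw [hW, Fusion.Signalizer.gen, Cfsg.signalizerClosure, Subgroup.map_iSup]
    refine iSup_le fun y => ?_
    rw [← Fusion.Signalizer.centralizerPPrimeCore_conj]
    refine le_iSup (fun y : {y : G // y ∈ hs.omega ∧ y ≠ 1} => th y.1)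
      ⟨n * y.1 * n⁻¹, ⟨(mem_normalizer_iff.1 hn y.1).1 y.2.1.1, ?_⟩, ?_⟩
    · rw [conj_pow, y.2.1.2, mul_one, mul_inv_cancel]
    · exact fun h => y.2.2 (mul_eq_left.1 (mul_inv_eq_one.1 h))
  have hWn : W.Normal := by
    refine normalizer_eq_top_iff.1 (hs.eq_top_of_le (le_trans (by norm_num) h8) hNW fun t ht ht1 => ?_)
    exact (hfac t ht ht1).trans (sup_le (inf_le_left.trans hNW) ((hthW t ht ht1).trans le_normalizer))
  have hWO : W ≤ Cfsg.oddCore G := Cores.le_oddCore hWodd
  exact hs.eq_top_of_le (le_trans (by norm_num) h8) le_sup_left fun t ht ht1 =>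
    (hfac t ht ht1).trans (sup_le_sup inf_le_left ((hthW t ht ht1).trans hWO))

/-- 2-rank 2: the sign of the action on the three involutions, or the partition into three classes. -/
theorem of_four (h4 : Nat.card hs.omega = 4)
    (hmove : ∀ t ∈ hs.omega, t ≠ 1 → ∃ n ∈ normalizer (H : Set G), n * t * n⁻¹ ≠ t) :
    normalizer (H : Set G) ⊔ Cfsg.oddCore G = ⊤ := by
  classical
  by_cases hfix : ∀ a ∈ hs.omega, a ≠ 1 → ∀ n ∈ normalizer (H : Set G), n * a * n⁻¹ = a →
      ∀ e ∈ hs.omega, n * e * n⁻¹ = e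
  · obtain ⟨t, ht, ht1⟩ := hs.omega.bot_or_exists_ne_one.resolve_left fun h => by
      rw [h, card_bot] at h4
      omega
    obtain ⟨n, hn, hnt⟩ := hmove t ht ht1
    obtain ⟨M, hM, hHM, hne⟩ := hs.exists_normal_of_regular (by omega) hfix ⟨t, ht, n, hn, hnt⟩
    exact of_normal hs hsub hM hHM hne
  push Not at hfix
  obtain ⟨a, ha, ha1, n, hn, hna, b, hb, hnb⟩ := hfix
  have hb1 : b ≠ 1 := fun h => hnb (by rw [h]; simp)
  let ι := {x : G // x ∈ hs.omega ∧ x ≠ 1}
  let _ : Fintype ι := Fintype.ofFinite ι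
  have hmem : ∀ m ∈ normalizer (H : Set G), ∀ x, x ∈ hs.omega ∧ x ≠ 1 →
      m * x * m⁻¹ ∈ hs.omega ∧ m * x * m⁻¹ ≠ 1 := fun m hm x hx =>
    ⟨⟨(mem_normalizer_iff.1 hm x).1 hx.1.1, by rw [conj_pow, hx.1.2, mul_one, mul_inv_cancel]⟩,
      fun h => hx.2 (mul_eq_left.1 (mul_inv_eq_one.1 h))⟩
  let ψ : ↥(normalizer (H : Set G)) →* Equiv.Perm ι :=
    { toFun := fun m =>
        { toFun := fun x => ⟨m.1 * x.1 * m.1⁻¹, hmem _ m.2 _ x.2⟩
          invFun := fun x => ⟨m.1⁻¹ * x.1 * m.1⁻¹⁻¹, hmem _ (inv_mem m.2) _ x.2⟩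
          left_inv := fun x => Subtype.ext (by show _ = x.1; group)
          right_inv := fun x => Subtype.ext (by show _ = x.1; group) }
      map_one' := Equiv.ext fun x => Subtype.ext (by show (1 : G) * x.1 * (1 : G)⁻¹ = x.1; group)
      map_mul' := fun m m' => Equiv.ext fun x => Subtype.ext (by
        show m.1 * m'.1 * x.1 * (m.1 * m'.1)⁻¹ = m.1 * (m'.1 * x.1 * m'.1⁻¹) * m.1⁻¹
        group) }
  have hcard : Fintype.card ι = 3 := by
    rw [← Nat.card_eq_fintype_card]
    have h1 : Nat.card {x : hs.omega // x ≠ 1} = 3 := by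
      let _ : Fintype hs.omega := Fintype.ofFinite _
      rw [Nat.card_eq_fintype_card, Fintype.card_subtype_compl, Fintype.card_subtype_eq,
        ← Nat.card_eq_fintype_card, h4]
    rw [← h1]
    exact Nat.card_congr
      ⟨fun x => ⟨⟨x.1, x.2.1⟩, fun h => x.2.2 (congrArg Subtype.val h)⟩,
        fun x => ⟨x.1.1, x.1.2, fun h => x.2 (Subtype.ext h)⟩, fun _ => rfl, fun _ => rfl⟩
  let A : ι := ⟨a, ha, ha1⟩
  let B : ι := ⟨b, hb, hb1⟩
  set σ := ψ ⟨n, hn⟩ with hσdef
  have hA : σ A = A := Subtype.ext hna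
  have hB : σ B ≠ B := fun h => hnb (congrArg Subtype.val h)
  have hAB : A ≠ B := fun h => hB (h ▸ hA)
  have hCA : σ B ≠ A := fun h => hAB (σ.injective (hA.trans h.symm))
  have huniv : ∀ x : ι, x = A ∨ x = B ∨ x = σ B := by
    intro x
    have h : ({A, B, σ B} : Finset ι) = Finset.univ := by
      refine Finset.eq_univ_of_card _ ?_
      rw [hcard, Finset.card_insert_of_notMem, Finset.card_pair (Ne.symm hB)]
      simp [hAB, Ne.symm hCA]
    have hx := Finset.mem_univ x
    rw [← h] at hx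
    simpa using hx
  have hσ : σ = Equiv.swap B (σ B) := by
    refine Equiv.ext fun x => ?_
    rcases huniv x with rfl | rfl | rfl
    · rw [hA, Equiv.swap_apply_of_ne_of_ne hAB (Ne.symm hCA)]
    · rw [Equiv.swap_apply_left]
    · rw [Equiv.swap_apply_right]
      rcases huniv (σ (σ B)) with h | h | h
      · exact absurd (σ.injective (h.trans hA.symm)) hCA
      · exact h
      · exact absurd (σ.injective h) hB
  let φ : ↥(normalizer (H : Set G)) →* ℤˣ := Equiv.Perm.sign.comp ψ
  have hodd : Odd (normalizer (H : Set G)).index := by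
    rw [Nat.odd_iff, ← Nat.two_dvd_ne_zero]
    exact hs.not_dvd_index
  refine of_normal hs hsub (M := (MonoidHom.transfer φ).ker) inferInstance ?_ ?_
  · intro h hh
    rw [MonoidHom.mem_ker, hs.transfer_eq φ ⟨h, le_normalizer hh⟩]
    have : ψ ⟨h, le_normalizer hh⟩ = 1 := Equiv.ext fun x => Subtype.ext (by
      show h * x.1 * h⁻¹ = x.1
      rw [hs.commute hh x.2.1.1, mul_inv_cancel_right])
    rw [show φ ⟨h, le_normalizer hh⟩ = Equiv.Perm.sign (ψ ⟨h, le_normalizer hh⟩) from rfl, this, map_one,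
      one_pow]
  · intro htop
    have h := hs.transfer_eq φ ⟨n, hn⟩
    rw [MonoidHom.mem_ker.1 (htop ▸ mem_top n : n ∈ (MonoidHom.transfer φ).ker),
      show φ ⟨n, hn⟩ = Equiv.Perm.sign σ from rfl, hσ, Equiv.Perm.sign_swap (Ne.symm hB),
      hodd.neg_one_pow] at h
    exact absurd h (by decide)

end Reductions

/-- Passing to the quotient by a central involution of `H`. -/
theorem of_central {H : Subgroup G} (hs : Setup H) {t : G} (ht : orderOf t = 2) (htH : t ∈ H)
    (htc : t ∈ center G)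
    (ih : ∀ (Q : Type u) [Group Q] [Finite Q], Nat.card Q < Nat.card G → ∀ K : Subgroup Q, Setup K →
      normalizer (K : Set Q) ⊔ Cfsg.oddCore Q = ⊤) :
    normalizer (H : Set G) ⊔ Cfsg.oddCore G = ⊤ := by
  set Z := zpowers t
  have hZn : Z.Normal := ⟨fun z hz g => by
    obtain ⟨k, rfl⟩ := mem_zpowers_iff.1 hz
    rw [mem_center_iff.1 (zpow_mem htc k) g, mul_inv_cancel_right]
    exact zpow_mem (mem_zpowers t) k⟩
  set π := QuotientGroup.mk' Z
  have hker : π.ker = Z := QuotientGroup.ker_mk' Z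
  have hZH : Z ≤ H := zpowers_le.2 htH
  have hlt : Nat.card (G ⧸ Z) < Nat.card G := by
    rw [card_eq_card_quotient_mul_card_subgroup Z, Nat.card_zpowers, ht]
    have : 0 < Nat.card (G ⧸ Z) := Nat.card_pos
    omega
  have hmemH : ∀ y, π y ∈ H.map π → y ∈ H := by
    rintro y ⟨h, hh, he⟩
    have h1 : h⁻¹ * y ∈ Z := by
      rw [← hker, MonoidHom.mem_ker, map_mul, map_inv, he, inv_mul_cancel]
    have := mul_mem hh (hZH h1)
    rwa [mul_inv_cancel_left] at this
  have hnorm : ∀ y, π y ∈ normalizer ((H.map π : Subgroup (G ⧸ Z)) : Set (G ⧸ Z)) →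
      y ∈ normalizer (H : Set G) := fun y hy =>
    H39.mem_normalizer_of_conj_mem fun h hh => hmemH _ (by
      rw [map_mul, map_mul, map_inv]
      exact (mem_normalizer_iff.1 hy _).1 ⟨h, hh, rfl⟩)
  have hK : Setup (H.map π) := by
    refine ⟨hs.pgroup.map π, ⟨⟨fun x y => Subtype.ext ?_⟩⟩, fun q => ?_⟩
    · obtain ⟨_, a, ha, rfl⟩ := x
      obtain ⟨_, b, hb, rfl⟩ := y
      show π a * π b = π b * π a
      rw [← map_mul, ← map_mul, hs.commute ha hb]
    · refine le_antisymm ?_ (le_inf le_sup_left le_normalizer)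
      obtain ⟨g, rfl⟩ := QuotientGroup.mk'_surjective Z q
      rintro x ⟨hx, hxn⟩
      have hxp : x ∈ (pair H g).map π := by
        refine (le_of_eq ?_ : _ ≤ (pair H g).map π) hx
        rw [Subgroup.map_sup, Subgroup.map_map, Subgroup.map_map]
        congr 2
      obtain ⟨y, hy, rfl⟩ := hxp
      exact ⟨y, (hs.closed g).le ⟨hy, hnorm y hxn⟩, rfl⟩
  have h := ih (G ⧸ Z) hlt (H.map π) hK
  set P := (Cfsg.oddCore (G ⧸ Z)).comap π
  have hPn : P.Normal := (normal_of_characteristic (Cfsg.oddCore (G ⧸ Z))).comap π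
  have hP : P ≤ Z ⊔ Cfsg.oddCore G := by
    let f : ↥P →* G ⧸ Z := π.comp P.subtype
    have hrange : f.range = Cfsg.oddCore (G ⧸ Z) := by
      rw [MonoidHom.range_eq_map, ← Subgroup.map_map, ← MonoidHom.range_eq_map, range_subtype,
        map_comap_eq_self_of_surjective (QuotientGroup.mk'_surjective Z)]
    have hcard : Nat.card f.ker = 2 := by
      have hkf : f.ker.map P.subtype = Z := by
        ext z
        refine ⟨?_, fun hz => ?_⟩
        · rintro ⟨y, hy, rfl⟩
          rw [← hker]; exact hy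
        · have hz1 : π z = 1 := by rw [← MonoidHom.mem_ker, hker]; exact hz
          exact ⟨⟨z, show π z ∈ Cfsg.oddCore (G ⧸ Z) by rw [hz1]; exact one_mem _⟩, hz1, rfl⟩
      rw [← card_map_of_injective P.subtype_injective (K := f.ker), hkf, Nat.card_zpowers, ht]
    have hidx : Odd f.ker.index := by
      rw [index_ker, hrange]; exact Cores.odd_card_oddCore
    obtain ⟨Q, hQ⟩ := exists_right_complement'_of_coprime (N := f.ker)
      (by rw [hcard]; exact Nat.coprime_two_left.2 hidx)
    have hkc : ∀ z ∈ f.ker, (z : G) ∈ center G := fun z hz =>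
      zpowers_le.2 htc (show (z : G) ∈ Z by rw [← hker]; exact hz)
    have hQn : Q.Normal := ⟨fun q hq y => by
      obtain ⟨⟨⟨z, hz⟩, ⟨q₁, hq₁⟩⟩, hy⟩ := hQ.2 y
      simp only at hy
      have hz' : ∀ w : ↥P, w * z = z * w := fun w => Subtype.ext (mem_center_iff.1 (hkc z hz) w)
      have : y * q * y⁻¹ = q₁ * q * q₁⁻¹ := by
        rw [← hy, mul_inv_rev]
        calc z * q₁ * q * (q₁⁻¹ * z⁻¹) = z * (q₁ * q * q₁⁻¹) * z⁻¹ := by group
          _ = _ := by rw [← hz', mul_inv_cancel_right]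
      rw [this]
      exact mul_mem (mul_mem hq₁ hq) (inv_mem hq₁)⟩
    have hQodd : Odd (Nat.card Q) := by
      rw [← hQ.symm.index_eq_card]; exact hidx
    intro y hy
    obtain ⟨⟨⟨z, hz⟩, ⟨q, hq⟩⟩, he⟩ := hQ.2 ⟨y, hy⟩
    have hy' : y = (z : G) * (q : G) := (congrArg Subtype.val he).symm
    rw [hy']
    refine mul_mem (mem_sup_left ?_) (mem_sup_right ?_)
    · rw [← hker]; exact hz
    · exact Cores.map_pPrimeCore_le_of_normal P ⟨q, Cores.le_oddCore hQodd hq, rfl⟩
  refine eq_top_iff.2 fun g _ => ?_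
  have hg : π g ∈ normalizer ((H.map π : Subgroup (G ⧸ Z)) : Set (G ⧸ Z)) ⊔ Cfsg.oddCore (G ⧸ Z) :=
    h ▸ mem_top _
  have hle : normalizer ((H.map π : Subgroup (G ⧸ Z)) : Set (G ⧸ Z)) ⊔ Cfsg.oddCore (G ⧸ Z) ≤
      (normalizer (H : Set G) ⊔ Cfsg.oddCore G).map π := by
    refine sup_le (fun x hx => ?_) (fun x hx => ?_) <;> obtain ⟨y, rfl⟩ := QuotientGroup.mk'_surjective Z x
    · exact ⟨y, mem_sup_left (hnorm y hx), rfl⟩
    · exact ⟨y, sup_le (le_sup_of_le_left (hZH.trans le_normalizer)) le_sup_right (hP hx), rfl⟩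
  obtain ⟨y, hy, hye⟩ := hle hg
  have h1 : y⁻¹ * g ∈ Z := by rw [← hker, MonoidHom.mem_ker, map_mul, map_inv, hye, inv_mul_cancel]
  have := mul_mem hy (mem_sup_left (T := Cfsg.oddCore G) (le_normalizer (hZH h1)))
  rwa [mul_inv_cancel_left] at this

/-- An extremely closed abelian 2-subgroup is normal modulo the odd core. -/
theorem normalizer_sup_oddCore
    (hFT : ∀ (K : Type u) [Group K] [Finite K], Odd (Nat.card K) → Group.IsSolvable K) :
    ∀ (n : ℕ) (Q : Type u) [Group Q] [Finite Q], Nat.card Q = n → ∀ K : Subgroup Q, Setup K →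
      normalizer (K : Set Q) ⊔ Cfsg.oddCore Q = ⊤ := by
  intro n
  induction n using Nat.strong_induction_on with
  | _ n ih =>
  intro Q _ _ hn K hs
  subst hn
  have ih' : ∀ (R : Type u) [Group R] [Finite R], Nat.card R < Nat.card Q → ∀ L : Subgroup R, Setup L →
      normalizer (L : Set R) ⊔ Cfsg.oddCore R = ⊤ := fun R _ _ hR => ih _ hR R rfl
  have hsub : ∀ M : Subgroup Q, K ≤ M → M ≠ ⊤ →
      M ≤ (normalizer (K : Set Q) ⊓ M) ⊔ (Cfsg.oddCore M).map M.subtype := by
    intro M hKM hne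
    have hlt : Nat.card M < Nat.card Q :=
      lt_of_le_of_ne M.card_le_card_group fun h => hne (M.card_eq_iff_eq_top.1 h)
    have h := congrArg (Subgroup.map M.subtype) (ih' M hlt _ (setup_subgroupOf hs hKM))
    rw [Subgroup.map_sup, ← MonoidHom.range_eq_map, range_subtype] at h
    refine h.ge.trans (sup_le_sup_right ?_ _)
    rintro _ ⟨y, hy, rfl⟩
    exact ⟨H39.mem_normalizer_of_conj_mem fun k hk =>
      (mem_normalizer_iff.1 hy ⟨k, hKM hk⟩).1 hk, y.2⟩
  by_cases hbot : hs.omega = ⊥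
  · have hK : K = ⊥ := by
      by_contra hne
      haveI : Fact (Nat.Prime 2) := ⟨Nat.prime_two⟩
      obtain ⟨k, hk⟩ := IsPGroup.iff_card.1 hs.pgroup
      have hk0 : k ≠ 0 := fun h => hne (card_eq_one.1 (by rw [hk, h, pow_zero]))
      obtain ⟨x, hx⟩ := exists_prime_orderOf_dvd_card' 2 (hk ▸ dvd_pow_self 2 hk0)
      rw [← orderOf_coe] at hx
      have := hs.mem_omega x.2 hx
      rw [hbot, mem_bot] at this
      rw [this, orderOf_one] at hx
      omega
    rw [hK, normalizer_eq_top_iff.2 (inferInstance : (⊥ : Subgroup Q).Normal), top_sup_eq]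
  by_cases hcen : ∃ t ∈ hs.omega, t ≠ 1 ∧ centralizer ({t} : Set Q) = ⊤
  · obtain ⟨t, ht, ht1, htop⟩ := hcen
    refine of_central hs (hs.orderOf_omega ht ht1) ht.1 (mem_center_iff.2 fun g => ?_) ih'
    exact mem_centralizer_singleton_iff.1 (htop ▸ mem_top g)
  push Not at hcen
  by_cases hfix : ∃ t ∈ hs.omega, t ≠ 1 ∧ ∀ n ∈ normalizer (K : Set Q), n * t * n⁻¹ = t
  · obtain ⟨t, ht, ht1, h⟩ := hfix
    exact of_fixed hs hsub (hs.orderOf_omega ht ht1) ht.1 h (hcen t ht ht1)
  push Not at hfix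
  obtain ⟨k, hk⟩ := IsPGroup.iff_card.1
    (show IsPGroup 2 hs.omega from fun x => ⟨1, Subtype.ext (by simpa using x.2.2)⟩)
  rcases Nat.lt_or_ge k 3 with hk3 | hk3
  · refine of_four hs hsub ?_ hfix
    interval_cases k
    · exact absurd (card_eq_one.1 (by simpa using hk)) hbot
    · exfalso
      obtain ⟨t, ht, ht1⟩ := hs.omega.bot_or_exists_ne_one.resolve_left hbot
      obtain ⟨m, hm, hmt⟩ := hfix t ht ht1
      have hm2 : m * t * m⁻¹ ∈ hs.omega :=
        ⟨(mem_normalizer_iff.1 hm t).1 ht.1, by rw [conj_pow, ht.2, mul_one, mul_inv_cancel]⟩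
      have hz : zpowers t = hs.omega := eq_of_le_of_card_ge (zpowers_le.2 ht)
        (by rw [Nat.card_zpowers, hs.orderOf_omega ht ht1, hk, pow_one])
      rw [← hz, mem_zpowers_iff] at hm2
      obtain ⟨i, hi⟩ := hm2
      rcases Int.even_or_odd i with ⟨j, rfl⟩ | ⟨j, rfl⟩
      · rw [zpow_add, ← (Commute.refl t).mul_zpow, ← pow_two, ht.2, one_zpow] at hi
        exact ht1 (mul_eq_left.1 (mul_inv_eq_one.1 hi.symm))
      · rw [zpow_add, zpow_mul, zpow_two, ← pow_two, ht.2, one_zpow, one_mul, zpow_one] at hi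
        exact hmt hi.symm
    · rw [hk]; rfl
  · refine of_rank_three hs hsub (fun L h => hFT ↥L h) ?_ hcen
    rw [hk]
    exact (Nat.pow_le_pow_right (by norm_num) hk3 : 2 ^ 3 ≤ 2 ^ k)

end Cfsg.Agent.H30.ExtremelyClosed
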