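import Cfsg.Agent.H30.Supersolvable

set_option autoImplicit false

/-! Groups all of whose subgroups satisfy the converse of Lagrange's theorem. -/

namespace Cfsg.Agent.H30

open Subgroup

universe u

theorem hasSubgroupOfEveryOrder_congr {A B : Type u} [Group A] [Group B] (e : A ≃* B)
    (h : Cfsg.HasSubgroupOfEveryOrder A) : Cfsg.HasSubgroupOfEveryOrder B := by
  intro d hd
  rw [← Nat.card_congr e.toEquiv] at hd
  obtain ⟨H, hH⟩ := h d hd
  exact ⟨H.map e.toMonoidHom, by rw [card_map_of_injective e.injective, hH]⟩

theorem hereditaryCLT_subgroup {G : Type u} [Group G]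
    (h : ∀ H : Subgroup G, Cfsg.HasSubgroupOfEveryOrder H) (K : Subgroup G) :
    ∀ H : Subgroup K, Cfsg.HasSubgroupOfEveryOrder H := fun H =>
  hasSubgroupOfEveryOrder_congr (H.equivMapOfInjective K.subtype K.subtype_injective).symm
    (h (H.map K.subtype))

/-- A hereditary CLT group has a normal subgroup of index the least prime divisor. -/
theorem exists_index_minFac {G : Type u} [Group G] [Finite G] [Nontrivial G]
    (h : ∀ H : Subgroup G, Cfsg.HasSubgroupOfEveryOrder H) :
    ∃ K : Subgroup G, K.Normal ∧ K.index = (Nat.card G).minFac := by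
  obtain ⟨K, hK⟩ := hasSubgroupOfEveryOrder_congr Subgroup.topEquiv (h ⊤)
    (Nat.card G / (Nat.card G).minFac) (Nat.div_dvd_of_dvd (Nat.minFac_dvd _))
  have h1 := card_mul_index K
  have hd := Nat.minFac_dvd (Nat.card G)
  have hi : K.index = (Nat.card G).minFac := by
    rw [hK] at h1
    have hpos : 0 < Nat.card G / (Nat.card G).minFac :=
      Nat.div_pos (Nat.le_of_dvd Nat.card_pos hd) (Nat.minFac_pos _)
    exact Nat.eq_of_mul_eq_mul_left hpos (h1.trans (Nat.div_mul_cancel hd).symm)
  exact ⟨K, normal_of_index_eq_minFac_card hi, hi⟩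

/-- In a hereditary CLT group the Sylow subgroup for the largest prime is normal. -/
theorem sylow_normal_of_hereditaryCLT {p : ℕ} [hp : Fact p.Prime] :
    ∀ (n : ℕ) {G : Type u} [Group G] [Finite G], Nat.card G ≤ n →
      (∀ H : Subgroup G, Cfsg.HasSubgroupOfEveryOrder H) →
      (∀ q : ℕ, q.Prime → q ∣ Nat.card G → q ≤ p) →
      ∀ P : Sylow p G, (P : Subgroup G).Normal := by
  intro n
  induction n with
  | zero => intro G _ _ h; exact absurd h (Nat.not_le.2 Nat.card_pos)
  | succ n ih =>
    intro G _ _ hc h hmax P
    cases subsingleton_or_nontrivial G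
    · rw [Subsingleton.elim (P : Subgroup G) ⊤]
      infer_instance
    obtain ⟨K, hKn, hKi⟩ := exists_index_minFac h
    have hq : K.index.Prime := hKi ▸ Nat.minFac_prime Finite.one_lt_card.ne'
    by_cases hqp : K.index = p
    · -- `G` is a `p`-group
      have hall : ∀ r : ℕ, r.Prime → r ∣ Nat.card G → r = p := fun r hr hrd =>
        le_antisymm (hmax r hr hrd) (by
          rw [← hqp, hKi]; exact Nat.minFac_le_of_dvd hr.two_le hrd)
      have hG : IsPGroup p G := by
        refine IsPGroup.of_card (n := (Nat.card G).primeFactorsList.length) ?_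
        exact Nat.eq_prime_pow_of_unique_prime_dvd Nat.card_pos.ne' fun {d} hd hdd => hall d hd hdd
      rw [P.is_maximal' (Q := ⊤) (hG.to_subgroup ⊤) le_top |>.symm]
      infer_instance
    · have hPK : (P : Subgroup G) ≤ K := by
        intro x hx
        rw [← QuotientGroup.ker_mk' K, MonoidHom.mem_ker, ← orderOf_eq_one_iff]
        obtain ⟨k, hk⟩ := P.isPGroup' ⟨x, hx⟩
        have h1 : orderOf (QuotientGroup.mk' K x) ∣ p ^ k := by
          refine (orderOf_map_dvd _ x).trans ?_
          rw [orderOf_dvd_iff_pow_eq_one]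
          exact congrArg Subtype.val hk
        have h2 : orderOf (QuotientGroup.mk' K x) ∣ K.index := by
          rw [index_eq_card]; exact orderOf_dvd_natCard _
        exact Nat.eq_one_of_dvd_coprimes
          (((Nat.coprime_primes hp.out hq).2 (Ne.symm hqp)).pow_left k) h1 h2
      have hlt : Nat.card K < Nat.card G := by
        rw [← card_mul_index K]
        exact lt_mul_of_one_lt_right Nat.card_pos hq.one_lt
      let P' : Sylow p K := P.subtype hPK
      have hn := ih (G := K) (by omega) (hereditaryCLT_subgroup h K)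
        (fun r hr hrd => hmax r hr (hrd.trans (card_subgroup_dvd_card K))) P'
      have := P'.characteristic_of_normal hn
      have hmap : ((P' : Subgroup K).map K.subtype).Normal := inferInstance
      have e : (P' : Subgroup K).map K.subtype = P := by
        simp only [P', Sylow.coe_subtype, subgroupOf_map_subtype, inf_eq_left.2 hPK]
      exact e ▸ hmap

/-- The inductive step: `G = R P` with `P` a normal `p`-group and `R` supersolvable, the
index of `R ⊓ P` in `P` dividing `p`. -/
theorem supersolvable_of_sup {p : ℕ} [hp : Fact p.Prime] :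
    ∀ (n : ℕ) {G : Type u} [Group G] [Finite G], Nat.card G ≤ n →
      ∀ (R P : Subgroup G) [P.Normal], IsPGroup p P → R ⊔ P = ⊤ → (R ⊓ P).Normal →
        (R ⊓ P).relIndex P ∣ p → Cfsg.IsSupersolvable R → Cfsg.IsSupersolvable G := by
  intro n
  induction n with
  | zero => intro G _ _ h; exact absurd h (Nat.not_le.2 Nat.card_pos)
  | succ n ih =>
    intro G _ _ hc R P _ hP hsup hI hrel hR
    by_cases hb : R ⊓ P = ⊥
    · rw [hb, relIndex_bot_left] at hrel
      have hcyc : IsCyclic P := by
        rcases (Nat.dvd_prime hp.out).1 hrel with h | h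
        · have : Subsingleton P := (Nat.card_eq_one_iff_unique.1 h).1
          infer_instance
        · exact isCyclic_of_prime_card h
      refine isSupersolvable_of_quotient_cyclic P hcyc
        (isSupersolvable_of_surjective hR ((QuotientGroup.mk' P).comp R.subtype) ?_)
      rw [← MonoidHom.range_eq_top, MonoidHom.range_comp, range_subtype,
        ← map_top_of_surjective _ (QuotientGroup.mk'_surjective P), ← hsup, Subgroup.map_sup,
        QuotientGroup.map_mk'_self, sup_bot_eq]
    · have hnt : Nontrivial P := (P.nontrivial_iff_ne_bot).2 fun h => hb (by simp [h])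
      -- `(R ⊓ P) ∩ Z(P)` is nontrivial
      have hM0 : (R ⊓ P) ⊓ centralizer (P : Set G) ≠ ⊥ := by
        have : ((R ⊓ P).subgroupOf P).Normal := hI.subgroupOf P
        have hne : (R ⊓ P).subgroupOf P ≠ ⊥ := by
          rw [Ne, subgroupOf_eq_bot, disjoint_iff]; simpa using hb
        have := (hP.to_subgroup ((R ⊓ P).subgroupOf P))
        obtain ⟨k, hk⟩ := this.exists_card_eq
        have hk0 : k ≠ 0 := by
          rintro rfl
          exact hne (card_eq_one.1 (by simpa using hk))
        -- conjugation action of `P` on the normal subgroup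
        obtain ⟨y, hy, hy1⟩ : ∃ y : (R ⊓ P).subgroupOf P,
            y ∈ MulAction.fixedPoints (ConjAct P) ((R ⊓ P).subgroupOf P) ∧ y ≠ 1 := by
          have hP' : IsPGroup p (ConjAct P) := hP.of_equiv ConjAct.toConjAct
          obtain ⟨y, hy, hy1⟩ := hP'.exists_fixed_point_of_prime_dvd_card_of_fixed_point
            ((R ⊓ P).subgroupOf P) (hk ▸ dvd_pow_self p hk0) (a := 1) (fun g => smul_one g)
          exact ⟨y, hy, fun h => hy1 h.symm⟩
        rw [Ne, eq_bot_iff]
        intro hle
        apply hy1
        have hmem : ((y : P) : G) ∈ (R ⊓ P) ⊓ centralizer (P : Set G) := by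
          refine ⟨y.2, mem_centralizer_iff.2 fun x hx => ?_⟩
          have := congrArg (fun t : (R ⊓ P).subgroupOf P => ((t : P) : G))
            (hy (ConjAct.toConjAct ⟨x, hx⟩))
          simp only [ConjAct.Subgroup.val_conj_smul, ConjAct.toConjAct_smul] at this
          simpa [mul_inv_eq_iff_eq_mul] using this
        exact Subtype.ext (Subtype.ext (mem_bot.1 (hle hmem)))
      set M := (R ⊓ P) ⊓ centralizer (P : Set G) with hM
      have hMR : M ≤ R := inf_le_left.trans inf_le_left
      have : M.Normal := by
        have := hI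
        rw [hM]; infer_instance
      have hne : M.subgroupOf R ≠ ⊥ := by
        rw [Ne, subgroupOf_eq_bot, disjoint_iff]; simpa [inf_eq_left.2 hMR] using hM0
      obtain ⟨Q, hQn, hQM, hQc⟩ := exists_normal_prime_le hR (M.subgroupOf R) hne
      have hQG : (Q.map R.subtype).Normal := by
        rw [← normalizer_eq_top_iff, eq_top_iff, ← hsup, sup_le_iff]
        constructor
        · intro r hr
          have := hQn.conj_mem
          rw [mem_normalizer_iff_map_conj_eq]
          refine eq_of_le_of_card_ge ?_ (le_of_eq (card_map_of_injective (MulEquiv.injective _)).symm)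
          rintro _ ⟨_, ⟨q, hq, rfl⟩, rfl⟩
          exact ⟨⟨r, hr⟩ * q * ⟨r, hr⟩⁻¹, this q hq _, rfl⟩
        · intro x hx
          rw [mem_normalizer_iff_map_conj_eq]
          refine eq_of_le_of_card_ge ?_ (le_of_eq (card_map_of_injective (MulEquiv.injective _)).symm)
          rintro _ ⟨_, ⟨q, hq, rfl⟩, rfl⟩
          have hc : ((q : R) : G) ∈ centralizer (P : Set G) := (hQM hq).2
          refine ⟨q, hq, ?_⟩
          show (q : G) = x * q * x⁻¹
          rw [mem_centralizer_iff.1 hc x hx, mul_inv_cancel_right]
      set Z := Q.map R.subtype with hZ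
      have hZc : (Nat.card Z).Prime := by
        rwa [hZ, card_map_of_injective R.subtype_injective]
      have hZle : Z ≤ R ⊓ P := by
        rintro _ ⟨q, hq, rfl⟩
        exact (hQM hq).1
      have hlt := card_quotient_lt Z (ne_bot_of_prime_card hZc)
      have hf := QuotientGroup.mk'_surjective Z
      have : (P.map (QuotientGroup.mk' Z)).Normal := Normal.map inferInstance _ hf
      have hinf : R.map (QuotientGroup.mk' Z) ⊓ P.map (QuotientGroup.mk' Z)
          = (R ⊓ P).map (QuotientGroup.mk' Z) := by
        apply le_antisymm _ (Subgroup.map_inf_le _ _ _)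
        rintro _ ⟨⟨r, hr, rfl⟩, ⟨x, hx, he⟩⟩
        refine ⟨r, ⟨hr, ?_⟩, rfl⟩
        have h1 : x⁻¹ * r ∈ Z := QuotientGroup.eq.1 he
        have := mul_mem hx (hZle h1).2
        rwa [mul_inv_cancel_left] at this
      refine isSupersolvable_of_quotient_cyclic Z (isCyclic_of_prime_card' hZc)
        (ih (G := G ⧸ Z) (by omega) (R.map (QuotientGroup.mk' Z)) (P.map (QuotientGroup.mk' Z))
          (hP.map _) ?_ ?_ ?_ ?_)
      · rw [← Subgroup.map_sup, hsup, map_top_of_surjective _ hf]
      · rw [hinf]; exact hI.map _ hf
      · rw [hinf]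
        refine Dvd.dvd.trans ?_ hrel
        rw [← relIndex_comap, comap_map_eq, QuotientGroup.ker_mk', sup_eq_left.2 hZle]
      · exact isSupersolvable_of_surjective hR _ ((QuotientGroup.mk' Z).subgroupMap_surjective R)

theorem isSupersolvable_of_hereditaryCLT :
    ∀ (n : ℕ) {G : Type u} [Group G] [Finite G], Nat.card G ≤ n →
      (∀ H : Subgroup G, Cfsg.HasSubgroupOfEveryOrder H) → Cfsg.IsSupersolvable G := by
  intro n
  induction n with
  | zero => intro G _ _ h; exact absurd h (Nat.not_le.2 Nat.card_pos)
  | succ n ih =>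
    intro G _ _ hc h
    cases subsingleton_or_nontrivial G
    · exact isSupersolvable_of_subsingleton
    have hne : (Nat.card G).primeFactors.Nonempty :=
      Nat.nonempty_primeFactors.2 Finite.one_lt_card
    obtain ⟨p, hpm, hmax⟩ := (Nat.card G).primeFactors.exists_max_image id hne
    rw [Nat.mem_primeFactors] at hpm
    simp only [id] at hmax
    have := Fact.mk hpm.1
    let P : Sylow p G := default
    have hPn : (P : Subgroup G).Normal := sylow_normal_of_hereditaryCLT _ le_rfl h
      (fun r hr hrd => hmax r (Nat.mem_primeFactors.2 ⟨hr, hrd, hpm.2.2⟩)) P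
    obtain ⟨R, hR⟩ := hasSubgroupOfEveryOrder_congr Subgroup.topEquiv (h ⊤)
      (Nat.card G / p) (Nat.div_dvd_of_dvd hpm.2.1)
    have hRi : R.index = p := by
      have h1 := card_mul_index R
      rw [hR] at h1
      exact Nat.eq_of_mul_eq_mul_left (Nat.div_pos (Nat.le_of_dvd Nat.card_pos hpm.2.1) hpm.1.pos)
        (h1.trans (Nat.div_mul_cancel hpm.2.1).symm)
    have hPR : ¬ (P : Subgroup G) ≤ R := fun hle => by
      have := P.not_dvd_index
      exact this ((dvd_of_eq hRi.symm).trans (index_dvd_of_le hle))
    have hsup : R ⊔ (P : Subgroup G) = ⊤ := by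
      have h1 := relIndex_mul_index (le_sup_left : R ≤ R ⊔ (P : Subgroup G))
      rw [hRi] at h1
      rcases (Nat.dvd_prime hpm.1).1 (Dvd.intro_left _ h1) with h2 | h2
      · exact index_eq_one.1 h2
      · exfalso
        apply hPR
        rw [h2] at h1
        have : R.relIndex (R ⊔ (P : Subgroup G)) = 1 :=
          Nat.eq_of_mul_eq_mul_right hpm.1.pos (h1.trans (one_mul p).symm)
        exact le_sup_right.trans (relIndex_eq_one.1 this)
    have hrel : (R ⊓ (P : Subgroup G)).relIndex P = p := by
      have h1 : (P : Subgroup G).relIndex R = (P : Subgroup G).index := by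
        rw [← relIndex_sup_right (H := R) (K := (P : Subgroup G)), hsup, relIndex_top_right]
      have e1 := relIndex_mul_index (inf_le_left (a := R) (b := (P : Subgroup G)))
      have e2 := relIndex_mul_index (inf_le_right (a := R) (b := (P : Subgroup G)))
      rw [inf_relIndex_left, h1, hRi, ← e2, mul_comm] at e1
      exact (Nat.eq_of_mul_eq_mul_right (Nat.pos_of_ne_zero index_ne_zero_of_finite) e1).symm
    have hI : (R ⊓ (P : Subgroup G)).Normal := by
      rw [← normalizer_eq_top_iff, eq_top_iff, ← hsup, sup_le_iff]
      constructor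
      · have : ((P : Subgroup G).subgroupOf R).Normal := inferInstance
        rw [inf_comm, ← normal_subgroupOf_iff_le_normalizer inf_le_right, inf_subgroupOf_right]
        exact this
      · rw [← normal_subgroupOf_iff_le_normalizer inf_le_right]
        apply normal_of_index_eq_minFac_card
        change (R ⊓ (P : Subgroup G)).relIndex P = _
        obtain ⟨k, hk⟩ := P.isPGroup'.exists_card_eq
        have hk0 : k ≠ 0 := by
          rintro rfl
          have := relIndex_dvd_card (R ⊓ (P : Subgroup G)) (P : Subgroup G)
          rw [hrel, hk, pow_zero] at this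
          exact hpm.1.ne_one (Nat.eq_one_of_dvd_one this)
        rw [hrel, hk, hpm.1.pow_minFac hk0]
    refine supersolvable_of_sup (p := p) _ le_rfl R (P : Subgroup G) P.isPGroup' hsup hI
      (dvd_of_eq hrel) (ih (G := R) ?_ (hereditaryCLT_subgroup h R))
    have : Nat.card R < Nat.card G := by
      rw [← card_mul_index R, hRi]; exact lt_mul_of_one_lt_right Nat.card_pos hpm.1.one_lt
    omega

end Cfsg.Agent.H30
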