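import Cfsg.Agent.Cores.FixingSylowStructure
import Cfsg.Prelude.Def_KGroupFacts

/-!
Frattini argument for automorphisms: `Out G` is solvable as soon as the automorphisms induced on a Sylow
2-subgroup form a solvable group (with the solvability of groups of odd order as a hypothesis).
-/

set_option autoImplicit false
set_option linter.unusedSectionVars false

namespace Cfsg.Agent.H30.OutSolvable

open Subgroup

universe u

variable {G : Type u} [Group G] [Finite G] (S : Sylow 2 G)

/-- The automorphisms leaving `S` invariant. -/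
def stab : Subgroup (MulAut G) where
  carrier := {φ | (S : Subgroup G).map φ.toMonoidHom = S}
  one_mem' := Subgroup.map_id _
  mul_mem' := fun {φ ψ} hφ hψ => by
    show (S : Subgroup G).map (φ * ψ).toMonoidHom = S
    rw [show (φ * ψ).toMonoidHom = φ.toMonoidHom.comp ψ.toMonoidHom from rfl, ← map_map, hψ, hφ]
  inv_mem' := fun {φ} hφ => by
    show (S : Subgroup G).map (φ⁻¹).toMonoidHom = S
    conv_lhs => rw [← hφ]
    rw [map_map]
    convert Subgroup.map_id (S : Subgroup G) using 2
    ext x
    exact φ.symm_apply_apply x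

theorem mem_stab {φ : MulAut G} : φ ∈ stab S ↔ (S : Subgroup G).map φ.toMonoidHom = S := Iff.rfl

/-- Restriction to `S`. -/
noncomputable def restr : ↥(stab S) →* MulAut ↥(S : Subgroup G) where
  toFun φ := ((φ.1).subgroupMap (S : Subgroup G)).trans (MulEquiv.subgroupCongr φ.2)
  map_one' := by ext x; rfl
  map_mul' φ ψ := by ext x; rfl

@[simp] theorem restr_apply (φ : ↥(stab S)) (x : ↥(S : Subgroup G)) :
    ((restr S φ x : ↥(S : Subgroup G)) : G) = φ.1 (x : G) := rfl

/-- Every automorphism is an inner one times one leaving `S` invariant. -/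
theorem exists_conj_mul (φ : MulAut G) : ∃ g : G, MulAut.conj g * φ ∈ stab S := by
  have : Fact (Nat.Prime 2) := ⟨Nat.prime_two⟩
  obtain ⟨g, hg⟩ := MulAction.exists_smul_eq G (S.mapSurjective (f := φ.toMonoidHom) φ.surjective) S
  refine ⟨g, ?_⟩
  rw [mem_stab, show (MulAut.conj g * φ).toMonoidHom = (MulAut.conj g).toMonoidHom.comp φ.toMonoidHom
    from rfl, ← map_map]
  conv_rhs => rw [← hg]
  rfl

/-- `Out G` is solvable when `Aut G` induces a solvable group on `S`. -/
theorem out_solvable (hFT : ∀ (H : Type u) [Group H] [Finite H], Odd (Nat.card H) → Group.IsSolvable H)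
    (hO : Cfsg.oddCore G = ⊥) (himg : Group.IsSolvable (restr S).range) :
    Group.IsSolvable (Cfsg.Out G) := by
  let C : Subgroup (MulAut G) := (restr S).ker.map (stab S).subtype
  have hC : ∀ φ ∈ C, ∀ s ∈ (S : Subgroup G), φ s = s := by
    rintro _ ⟨φ, hφ, rfl⟩ s hs
    have h := congrArg (fun e : MulAut ↥(S : Subgroup G) => ((e ⟨s, hs⟩ : ↥(S : Subgroup G)) : G))
      (MonoidHom.mem_ker.1 hφ)
    exact h
  have hCs : Group.IsSolvable ↥C := Cores.fixing_sylow_isSolvable S hFT hO hC
  have : Group.IsSolvable ↥(restr S).ker :=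
    solvable_of_solvable_injective (f := ((restr S).ker.equivMapOfInjective (stab S).subtype
      (stab S).subtype_injective).toMonoidHom) (MulEquiv.injective _)
  have : Group.IsSolvable ↥(stab S) :=
    solvable_of_ker_le_range (restr S).ker.subtype (restr S).rangeRestrict (by simp)
  refine solvable_of_surjective (f := (QuotientGroup.mk' (Cfsg.Inn G)).comp (stab S).subtype) ?_
  intro q
  induction q using QuotientGroup.induction_on with
  | _ φ =>
  obtain ⟨g, hg⟩ := exists_conj_mul S φ
  refine ⟨⟨_, hg⟩, (QuotientGroup.eq).2 ?_⟩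
  refine ⟨(φ.symm g)⁻¹, ?_⟩
  ext x
  simp [MulAut.conj_apply, mul_assoc]

/-- The odd core of a simple group of even order is trivial. -/
theorem oddCore_eq_bot [IsSimpleGroup G] (hS1 : (S : Subgroup G) ≠ ⊥) : Cfsg.oddCore G = ⊥ := by
  have : Fact (Nat.Prime 2) := ⟨Nat.prime_two⟩
  have : (Cfsg.oddCore G).Normal := @normal_of_characteristic _ _ _ Cores.pPrimeCore_characteristic
  refine (IsSimpleGroup.eq_bot_or_eq_top_of_normal _ this).resolve_right fun h => hS1 ?_
  have h1 := Cores.odd_card_oddCore (G := G)
  rw [h, card_top] at h1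
  obtain ⟨k, hk⟩ := IsPGroup.iff_card.1 S.isPGroup'
  rcases k with _ | k
  · exact card_eq_one.1 (by simpa using hk)
  · have h2 := card_subgroup_dvd_card (S : Subgroup G)
    rw [hk] at h2
    exact absurd h1 (Nat.not_odd_iff_even.2 (even_iff_two_dvd.2 ((dvd_pow_self 2 k.succ_ne_zero).trans h2)))

end Cfsg.Agent.H30.OutSolvable
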