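import Mathlib

set_option autoImplicit false

/-! Permutations of the projective line over a small prime field, and their finite tables. -/

namespace Cfsg.Agent.H30.PSLPrime

variable {p : ℕ}

/-- The affine map fixing infinity. -/
def aff (a b : ZMod p) : Option (ZMod p) → Option (ZMod p) :=
  Option.map fun x => a * x + b

/-- A candidate for an element interchanging zero and infinity. -/
def cand (h i : ℕ) (c e : ZMod p) : Option (ZMod p) → Option (ZMod p)
  | none => some 0
  | some x => if x = 0 then none else some ((if x ^ h = 1 then c else e) * x ^ i)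

/-- The standard inversion. -/
def inv₀ (h : ℕ) : Option (ZMod p) → Option (ZMod p) := cand h (h - 1) (-1) 1

/-- The word `w t^(-w 1) w t w`. -/
def word (f : Option (ZMod p) → Option (ZMod p)) (z : ZMod p) (x : Option (ZMod p)) :
    Option (ZMod p) :=
  f (aff 1 (-z) (f (aff 1 1 (f x))))

/-- `g` is an affine map with square multiplier. -/
def isAff [NeZero p] (h : ℕ) (g : Option (ZMod p) → Option (ZMod p)) : Bool :=
  match g (some 0), g (some 1) with
  | some b, some y => decide ((y - b) ^ h = 1) && decide (g none = none) &&
      (List.range p).all fun k => decide (g (some (k : ZMod p)) = some ((y - b) * k + b))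
  | _, _ => false

theorem isAff_of [NeZero p] {h : ℕ} {g : Option (ZMod p) → Option (ZMod p)} {a b : ZMod p}
    (ha : a ^ h = 1) (hg : ∀ x, g x = aff a b x) : isAff h g = true := by
  simp [isAff, hg, aff, ha]

/-- Both necessary conditions on a candidate. -/
def okCand [NeZero p] (h i : ℕ) (c e : ZMod p) : Bool :=
  isAff h (fun x => cand h i c e (cand h i c e x)) && isAff h (word (cand h i c e) c)

/-- The candidate agrees with the inversion up to a square multiplier. -/
def goodCand (h g₀ i : ℕ) (c e : ZMod p) : Bool :=
  (List.range h).any fun j => (List.range p).all fun k =>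
    decide (cand h i c e (some (k : ZMod p)) = aff ((g₀ : ZMod p) ^ j) 0 (inv₀ h (some (k : ZMod p))))

/-- The full check for the prime `p`. -/
def checkAll (p h g₀ skip : ℕ) [NeZero p] : Bool :=
  (List.range h).all fun i => decide (i = skip) ||
    (List.range p).all fun c => (List.range p).all fun e =>
      decide (c = 0) || decide (e = 0) || !okCand (p := p) h i (c : ZMod p) (e : ZMod p) ||
        goodCand (p := p) h g₀ i (c : ZMod p) (e : ZMod p)

theorem checkAll_seven : checkAll 7 3 2 1 = true := by decide +kernel

theorem checkAll_eleven : checkAll 11 5 4 5 = true := by decide +kernel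

theorem checkAll_thirteen : checkAll 13 6 4 6 = true := by decide +kernel

theorem exists_mul_inv₀ [NeZero p] {h g₀ skip : ℕ} (hchk : checkAll p h g₀ skip = true) {i : ℕ}
    (hi : i < h) (hskip : i ≠ skip) {c e : ZMod p} (hc : c ≠ 0) (he : e ≠ 0)
    (hok : okCand h i c e = true) :
    ∃ j < h, ∀ x, cand h i c e x = aff ((g₀ : ZMod p) ^ j) 0 (inv₀ h x) := by
  rw [checkAll, List.all_eq_true] at hchk
  have h1 := hchk i (List.mem_range.2 hi)
  simp only [hskip, decide_false, Bool.false_or, List.all_eq_true, List.mem_range] at h1
  have h2 := h1 c.val (ZMod.val_lt c) e.val (ZMod.val_lt e)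
  simp only [ZMod.natCast_zmod_val, ZMod.val_eq_zero, hc, he, decide_false, Bool.false_or, hok,
    Bool.not_true, goodCand, List.any_eq_true, List.all_eq_true, List.mem_range,
    decide_eq_true_eq] at h2
  obtain ⟨j, hj, h3⟩ := h2
  refine ⟨j, hj, fun x => ?_⟩
  cases x with
  | none => simp [cand, inv₀, aff]
  | some x =>
    have := h3 x.val (ZMod.val_lt x)
    rwa [ZMod.natCast_zmod_val] at this

end Cfsg.Agent.H30.PSLPrime
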