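import Cfsg.Agent.Fusion.Basic
import Mathlib.GroupTheory.SpecificGroups.Quaternion
import Cfsg.Agent.H61.ZStarInst
import Cfsg.Prelude.Def_TwoFusion

/-!
A direct quaternion factor of a Sylow 2-subgroup all of whose involutions are central produces
an isolated involution.
-/

set_option autoImplicit false

namespace Cfsg.Agent.H30.QuaternionFactor

open scoped commutatorElement

universe u

/-- An automorphism of `Q × R` either moves `(z, 1)` into the kernel of the first projection or
fixes it, `z` being the unique involution of the 2-group `Q` and lying in its derived group. -/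
theorem fst_eq_one_or_fixed {Q R : Type*} [Group Q] [Group R] [Finite Q] (hQ2 : IsPGroup 2 Q)
    (z : Q) (huniq : ∀ x : Q, x ^ 2 = 1 → x = 1 ∨ x = z) (hz2 : z ^ 2 = 1)
    (hzc : z ∈ commutator Q) (α : MulAut (Q × R)) :
    (α (z, 1)).1 = 1 ∨ α (z, 1) = (z, 1) := by
  set g : Q →* Q := (MonoidHom.fst Q R).comp (α.toMonoidHom.comp (MonoidHom.inl Q R)) with hgdef
  set h : Q →* R := (MonoidHom.snd Q R).comp (α.toMonoidHom.comp (MonoidHom.inl Q R)) with hhdef
  by_cases hgz : g z = 1
  · exact Or.inl hgz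
  right
  have hinj : Function.Injective g := by
    rw [injective_iff_map_eq_one]
    intro q hq
    obtain ⟨k, hk⟩ := hQ2 q
    induction k with
    | zero => simpa using hk
    | succ k ih =>
      refine ih ?_
      have h2 : (q ^ 2 ^ k) ^ 2 = 1 := by rw [← pow_mul, ← pow_succ]; exact hk
      rcases huniq _ h2 with h1 | h1
      · exact h1
      · exact absurd (by rw [← h1, map_pow, hq, one_pow]) hgz
  have hsurj : Function.Surjective g := Finite.injective_iff_surjective.mp hinj
  have hgzz : g z = z := (huniq _ (by rw [← map_pow, hz2, map_one])).resolve_left hgz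
  have hcen : ∀ ρ : R, ∀ q' : Q, Commute ρ (h q') := by
    intro ρ q'
    have hx : α ((α.symm (1, ρ)).1, 1) * α (1, (α.symm (1, ρ)).2) = (1, ρ) := by
      rw [← map_mul, Prod.mk_mul_mk, mul_one, one_mul, Prod.mk.eta, MulEquiv.apply_symm_apply]
    set q : Q := (α.symm (1, ρ)).1
    set r : R := (α.symm (1, ρ)).2
    have hcomm : ∀ t : Q, Commute (α (t, 1)) (α (1, r)) := by
      intro t
      exact ((Commute.one_right t).prod (Commute.one_left r)).map α
    have hb : ∀ t : Q, Commute (α (1, r)).2 (h t) := fun t =>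
      ((hcomm t).symm).map (MonoidHom.snd Q R)
    have ha : ∀ t : Q, Commute (α (1, r)).1 (g t) := fun t =>
      ((hcomm t).symm).map (MonoidHom.fst Q R)
    have h1 : g q * (α (1, r)).1 = 1 := congrArg Prod.fst hx
    have h2 : h q * (α (1, r)).2 = ρ := congrArg Prod.snd hx
    have hq : ∀ t : Q, Commute q t := by
      intro t
      apply hinj
      have h3 : Commute (g q) (g t) := by
        rw [eq_inv_of_mul_eq_one_left h1]
        exact (ha t).inv_left
      rw [map_mul, map_mul]
      exact h3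
    rw [← h2]
    exact ((hq q').map h).mul_left (hb q')
  have hker : commutator Q ≤ h.ker := by
    rw [commutator_eq_closure, Subgroup.closure_le]
    rintro _ ⟨a, b, rfl⟩
    rw [SetLike.mem_coe, MonoidHom.mem_ker, map_commutatorElement, commutatorElement_eq_one_iff_commute]
    exact hcen _ _
  exact Prod.ext hgzz (MonoidHom.mem_ker.mp (hker hzc))

open scoped IsMulCommutative in
/-- If all involutions of `Q × R` are central, there is an involution fixed by every automorphism. -/
theorem exists_fixed_involution {Q R : Type*} [Group Q] [Group R] [Finite Q] [Finite R]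
    (hQ2 : IsPGroup 2 Q) (z : Q) (huniq : ∀ x : Q, x ^ 2 = 1 → x = 1 ∨ x = z) (hzo : orderOf z = 2)
    (hzc : z ∈ commutator Q) (hinv : ∀ x : Q × R, x ^ 2 = 1 → x ∈ Subgroup.center (Q × R)) :
    ∃ w : Q × R, orderOf w = 2 ∧ ∀ α : MulAut (Q × R), α w = w := by
  classical
  have : Fintype (Subgroup.center (Q × R)) := Fintype.ofFinite _
  have hz2 : z ^ 2 = 1 := by rw [← hzo]; exact pow_orderOf_eq_one z
  have hzne : z ≠ 1 := by intro h; rw [h, orderOf_one] at hzo; omega
  have hz₀2 : ((z, 1) : Q × R) ^ 2 = 1 := Prod.ext hz2 (one_pow 2)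
  let z₀ : Subgroup.center (Q × R) := ⟨(z, 1), hinv _ hz₀2⟩
  let X : Finset (Subgroup.center (Q × R)) :=
    Finset.univ.filter (fun x => ∃ α : MulAut (Q × R), α (z, 1) = (x : Q × R))
  let π : Subgroup.center (Q × R) →* Q :=
    (MonoidHom.fst Q R).comp (Subgroup.center (Q × R)).subtype
  have hz₀X : z₀ ∈ X := Finset.mem_filter.mpr ⟨Finset.mem_univ _, 1, rfl⟩
  have hπ : ∀ x ∈ X, x ≠ z₀ → π x = 1 := by
    intro x hx hne
    obtain ⟨α, hα⟩ := (Finset.mem_filter.mp hx).2
    rcases fst_eq_one_or_fixed hQ2 z huniq hz2 hzc α with h | h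
    · change (x : Q × R).1 = 1; rw [← hα]; exact h
    · exact absurd (Subtype.ext (hα.symm.trans h)) hne
  let w : Subgroup.center (Q × R) := ∏ x ∈ X, x
  have hw1 : (w : Q × R).1 = z := by
    have hr : π (∏ x ∈ X.erase z₀, x) = 1 :=
      Finset.prod_induction _ (fun t => π t = 1) (fun a b ha hb => by rw [map_mul, ha, hb, one_mul])
        (map_one π) (fun x hx => hπ x (Finset.mem_of_mem_erase hx) (Finset.ne_of_mem_erase hx))
    change π (∏ x ∈ X, x) = z
    rw [← Finset.mul_prod_erase X (fun x => x) hz₀X, map_mul, hr, mul_one]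
    rfl
  have hw2 : w ^ 2 = 1 := by
    change (∏ x ∈ X, x) ^ 2 = 1
    rw [← Finset.prod_pow]
    refine Finset.prod_eq_one (fun x hx => ?_)
    obtain ⟨α, hα⟩ := (Finset.mem_filter.mp hx).2
    refine Subtype.ext ?_
    rw [SubmonoidClass.coe_pow, ← hα, ← map_pow, hz₀2, map_one, OneMemClass.coe_one]
  refine ⟨(w : Q × R), orderOf_eq_prime (by rw [← SubmonoidClass.coe_pow, hw2]; rfl)
    (fun h => hzne (by rw [← hw1, h, Prod.fst_one])), fun α => ?_⟩
  have hC : ∀ x : Subgroup.center (Q × R), α (x : Q × R) ∈ Subgroup.center (Q × R) := by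
    intro x
    rw [Subgroup.mem_center_iff]
    intro g
    obtain ⟨g', rfl⟩ := α.surjective g
    rw [← map_mul, ← map_mul, Subgroup.mem_center_iff.mp x.2 g']
  let σ : Subgroup.center (Q × R) →* Subgroup.center (Q × R) :=
    ((α : Q × R →* Q × R).comp (Subgroup.center (Q × R)).subtype).codRestrict _ hC
  have hσ : Function.Injective σ := fun a b h =>
    Subtype.ext (α.injective (congrArg Subtype.val h))
  have himg : X.image σ = X := by
    refine Finset.eq_of_subset_of_card_le ?_ (Finset.card_image_of_injective X hσ).ge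
    intro x hx
    obtain ⟨y, hy, rfl⟩ := Finset.mem_image.mp hx
    obtain ⟨β, hβ⟩ := (Finset.mem_filter.mp hy).2
    exact Finset.mem_filter.mpr ⟨Finset.mem_univ _, α * β, congrArg α hβ⟩
  have hfix : σ w = w := by
    change σ (∏ x ∈ X, x) = ∏ x ∈ X, x
    rw [map_prod]
    conv_rhs => rw [← himg, Finset.prod_image (hσ.injOn)]
  exact congrArg Subtype.val hfix

/-- The involution `a m` of `QuaternionGroup m`, `m` even. -/
theorem quaternion_facts (n : ℕ) (hn : 1 ≤ n) :
    IsPGroup 2 (QuaternionGroup (2 ^ n)) ∧ ∃ z : QuaternionGroup (2 ^ n),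
      (∀ x, x ^ 2 = 1 → x = 1 ∨ x = z) ∧ orderOf z = 2 ∧ z ∈ commutator (QuaternionGroup (2 ^ n)) ∧
      z ∈ Subgroup.center (QuaternionGroup (2 ^ n)) := by
  have hm : NeZero (2 ^ n) := ⟨by positivity⟩
  have hP : IsPGroup 2 (QuaternionGroup (2 ^ n)) := IsPGroup.of_card (n := n + 2) (by
    rw [Nat.card_eq_fintype_card, QuaternionGroup.card]; ring)
  refine ⟨hP, QuaternionGroup.a ((2 ^ n : ℕ) : ZMod (2 * 2 ^ n)), ?_⟩
  have h2m : ((2 * 2 ^ n : ℕ) : ZMod (2 * 2 ^ n)) = 0 := ZMod.natCast_self _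
  have huniq : ∀ x : QuaternionGroup (2 ^ n), x ^ 2 = 1 →
      x = 1 ∨ x = QuaternionGroup.a ((2 ^ n : ℕ) : ZMod (2 * 2 ^ n)) := by
    intro x hx
    rcases x with i | i
    · rw [sq, QuaternionGroup.a_mul_a, QuaternionGroup.one_def, QuaternionGroup.a.injEq] at hx
      have hval : (2 * 2 ^ n) ∣ 2 * i.val := by
        rw [← ZMod.natCast_eq_zero_iff]
        push_cast
        rw [ZMod.natCast_zmod_val]
        exact (two_mul i).trans hx
      obtain ⟨c, hc⟩ := (Nat.mul_dvd_mul_iff_left (by norm_num : 0 < 2)).mp hval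
      have hlt := ZMod.val_lt i
      have hc2 : c < 2 := by
        by_contra h
        have : 2 ^ n * 2 ≤ 2 ^ n * c := Nat.mul_le_mul_left _ (by omega)
        omega
      interval_cases c
      · left
        have : i = 0 := by rw [← ZMod.natCast_zmod_val i, hc]; simp
        rw [this, QuaternionGroup.a_zero]
      · right
        rw [← ZMod.natCast_zmod_val i, hc, mul_one]
    · have := orderOf_dvd_of_pow_eq_one hx
      rw [QuaternionGroup.orderOf_xa] at this
      omega
  have hpos : 0 < 2 ^ n := by positivity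
  have hord : orderOf (QuaternionGroup.a ((2 ^ n : ℕ) : ZMod (2 * 2 ^ n))) = 2 := by
    rw [QuaternionGroup.orderOf_a, ZMod.val_natCast, Nat.mod_eq_of_lt (by omega), Nat.gcd_mul_left_left,
      Nat.mul_div_cancel _ hpos]
  refine ⟨huniq, hord, ?_, ?_⟩
  · -- `a 2` is a commutator
    obtain ⟨k, hk⟩ : ∃ k, 2 ^ n = 2 * k := ⟨2 ^ (n - 1), by rw [← pow_succ']; congr 1; omega⟩
    have hc : QuaternionGroup.a (2 : ZMod (2 * 2 ^ n)) ∈ commutator (QuaternionGroup (2 ^ n)) := by
      have h : QuaternionGroup.a (2 : ZMod (2 * 2 ^ n)) =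
          ⁅QuaternionGroup.a (1 : ZMod (2 * 2 ^ n)), QuaternionGroup.xa 0⁆ := by
        have h' : QuaternionGroup.a (1 : ZMod (2 * 2 ^ n)) * QuaternionGroup.xa 0 =
            QuaternionGroup.a 2 * (QuaternionGroup.xa 0 * QuaternionGroup.a 1) := by
          simp only [QuaternionGroup.a_mul_xa, QuaternionGroup.xa_mul_a]
          congr 1
          ring
        rw [commutatorElement_def, h']
        group
      rw [h]
      exact Subgroup.commutator_mem_commutator (Subgroup.mem_top _) (Subgroup.mem_top _)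
    have : QuaternionGroup.a (2 : ZMod (2 * 2 ^ n)) ^ k =
        QuaternionGroup.a ((2 ^ n : ℕ) : ZMod (2 * 2 ^ n)) := by
      have hpow : ∀ j : ℕ, QuaternionGroup.a (2 : ZMod (2 * 2 ^ n)) ^ j =
          QuaternionGroup.a ((2 * j : ℕ) : ZMod (2 * 2 ^ n)) := by
        intro j
        induction j with
        | zero => rw [pow_zero, QuaternionGroup.one_def, mul_zero, Nat.cast_zero]
        | succ j ih => rw [pow_succ, ih, QuaternionGroup.a_mul_a]; congr 1; push_cast; ring
      rw [hpow, ← hk]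
    rw [← this]
    exact pow_mem hc k
  · rw [Subgroup.mem_center_iff]
    intro g
    have hc : (g * QuaternionGroup.a ((2 ^ n : ℕ) : ZMod (2 * 2 ^ n)) * g⁻¹) ^ 2 = 1 := by
      have h2 := pow_orderOf_eq_one (QuaternionGroup.a ((2 ^ n : ℕ) : ZMod (2 * 2 ^ n)))
      rw [hord] at h2
      rw [conj_pow, h2, mul_one, mul_inv_cancel]
    rcases huniq _ hc with h | h
    · exfalso
      rw [mul_inv_eq_one] at h
      have := hord
      rw [mul_eq_left] at h
      rw [h, orderOf_one] at this
      omega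
    · exact mul_inv_eq_iff_eq_mul.mp h

/-- A Sylow 2-subgroup `Q × R` with `Q` generalized quaternion and all involutions of `R` central
in `R` contains an involution of `G` that is weakly closed in it. -/
theorem exists_isolated {G : Type u} [Group G] [Finite G] (S : Sylow 2 G) (Q R : Subgroup G)
    (hQR : Cfsg.IsInternalDirectProduct Q R (S : Subgroup G)) (n : ℕ) (hn : 1 ≤ n)
    (eQ : ↥Q ≃* QuaternionGroup (2 ^ n))
    (hR : ∀ r ∈ R, orderOf r = 2 → ∀ s ∈ R, r * s = s * r) :
    ∃ u : G, orderOf u = 2 ∧ u ∈ S ∧ ∀ g : G, g * u * g⁻¹ ∈ S → g * u * g⁻¹ = u := by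
  obtain ⟨hQS, hRS, hcomm, hinf, hsup⟩ := hQR
  have hcomm' : ∀ (a : Q) (b : R), Commute
      (Subgroup.inclusion hQS a) (Subgroup.inclusion hRS b) := fun a b =>
    Subtype.ext (hcomm a a.2 b b.2)
  let f : Q × R →* (S : Subgroup G) :=
    MonoidHom.noncommCoprod (Subgroup.inclusion hQS) (Subgroup.inclusion hRS) hcomm'
  have hfval : ∀ x : Q × R, (f x : G) = (x.1 : G) * (x.2 : G) := fun x => rfl
  have hf : Function.Bijective f := by
    constructor
    · rw [injective_iff_map_eq_one]
      rintro ⟨a, b⟩ hab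
      have h1 : (a : G) * b = 1 := congrArg Subtype.val hab
      have h2 : (a : G) ∈ Q ⊓ R :=
        ⟨a.2, (eq_inv_of_mul_eq_one_left h1).symm ▸ R.inv_mem b.2⟩
      rw [hinf, Subgroup.mem_bot] at h2
      rw [h2, one_mul] at h1
      exact Prod.ext (Subtype.ext h2) (Subtype.ext h1)
    · have htop : Q ⊔ R ≤ f.range.map (S : Subgroup G).subtype := by
        refine sup_le (fun a ha => ?_) (fun b hb => ?_)
        · exact ⟨f (⟨a, ha⟩, 1), ⟨_, rfl⟩, by simp [hfval]⟩
        · exact ⟨f (1, ⟨b, hb⟩), ⟨_, rfl⟩, by simp [hfval]⟩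
      intro x
      have hx : (x : G) ∈ Q ⊔ R := by rw [hsup]; exact x.2
      obtain ⟨y, ⟨t, ht⟩, hy⟩ := htop hx
      exact ⟨t, ht.trans (Subtype.ext hy)⟩
  let e : Q × R ≃* (S : Subgroup G) := MulEquiv.ofBijective f hf
  obtain ⟨hP, z, huniq, hzo, hzc, hzcen⟩ := quaternion_facts n hn
  have hQ2 : IsPGroup 2 Q := hP.of_equiv eQ.symm
  have huniq' : ∀ x : Q, x ^ 2 = 1 → x = 1 ∨ x = eQ.symm z := by
    intro x hx
    rcases huniq (eQ x) (by rw [← map_pow, hx, map_one]) with h | h
    · exact Or.inl (eQ.injective (by rw [h, map_one]))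
    · exact Or.inr (eQ.injective (by rw [h, eQ.apply_symm_apply]))
  have hzc' : eQ.symm z ∈ commutator Q := by
    have := Subgroup.mem_map_of_mem (eQ.symm : QuaternionGroup (2 ^ n) →* Q) hzc
    rw [map_commutator_eq, MonoidHom.range_eq_top.mpr eQ.symm.surjective] at this
    exact this
  have hzo' : orderOf (eQ.symm z) = 2 := by rw [MulEquiv.orderOf_eq, hzo]
  have hinv : ∀ x : Q × R, x ^ 2 = 1 → x ∈ Subgroup.center (Q × R) := by
    rintro ⟨a, b⟩ hx
    have ha : a ^ 2 = 1 := congrArg Prod.fst hx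
    have hb : b ^ 2 = 1 := congrArg Prod.snd hx
    rw [Subgroup.mem_center_iff]
    rintro ⟨c, d⟩
    refine Prod.ext ?_ ?_
    · change c * a = a * c
      rcases huniq' a ha with rfl | rfl
      · simp
      · apply eQ.injective
        rw [map_mul, map_mul, eQ.apply_symm_apply]
        exact Subgroup.mem_center_iff.mp hzcen (eQ c)
    · change d * b = b * d
      by_cases hb1 : b = 1
      · simp [hb1]
      · exact Subtype.ext (hR b b.2 (by rw [Subgroup.orderOf_coe]; exact orderOf_eq_prime hb hb1) d d.2).symm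
  obtain ⟨w, hwo, hwfix⟩ := exists_fixed_involution hQ2 _ huniq' hzo' hzc' hinv
  refine ⟨(e w : G), by rw [Subgroup.orderOf_coe, MulEquiv.orderOf_eq, hwo], (e w).2, ?_⟩
  intro g hg
  have hS2 : ∀ x : (S : Subgroup G), x ^ 2 = 1 → (x : G) ∈ Subgroup.centralizer (S : Set G) := by
    intro x hx
    rw [Subgroup.mem_centralizer_iff]
    intro y hy
    have h := Subgroup.mem_center_iff.mp (hinv (e.symm x) (by rw [← map_pow, hx, map_one]))
      (e.symm ⟨y, hy⟩)
    have h' := congrArg e h
    rw [map_mul, map_mul, e.apply_symm_apply, e.apply_symm_apply] at h'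
    exact congrArg Subtype.val h'
  have hw2 : (e w) ^ 2 = 1 := by
    have h := pow_orderOf_eq_one w
    rw [hwo] at h
    rw [← map_pow, h, map_one]
  have hw2' : ((e w : G)) ^ 2 = 1 := congrArg Subtype.val hw2
  have h1 := hS2 _ hw2
  have h2 := hS2 ⟨_, hg⟩ (Subtype.ext (by
    change (g * (e w : G) * g⁻¹) ^ 2 = 1
    rw [conj_pow, hw2', mul_one, mul_inv_cancel]))
  obtain ⟨m, hm, hmeq⟩ := Fusion.burnside_fusion_centralizer S h1 h2
  rw [← hmeq]
  have hm' : m ∈ Subgroup.normalizer ((S : Subgroup G) : Set G) := hm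
  let c : MulAut (S : Subgroup G) := Subgroup.normalizerMonoidHom (S : Subgroup G) ⟨m, hm'⟩
  have hfix := hwfix ((e.trans c).trans e.symm)
  simp only [MulEquiv.trans_apply] at hfix
  have h3 : c (e w) = e w := by simpa using congrArg e hfix
  exact congrArg Subtype.val h3

end Cfsg.Agent.H30.QuaternionFactor
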