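import Cfsg.Agent.S0144
import Cfsg.Agent.S0499
import Mathlib.GroupTheory.SpecificGroups.Cyclic

/-!
Tools to exclude orders of finite simple groups.
-/

set_option autoImplicit false

namespace Cfsg.Agent.H30.SmallSimple

open Subgroup

variable {G : Type*} [Group G] [Finite G] [IsSimpleGroup G]

omit [Finite G] in
theorem not_comm_of_not_cyclic (hG : ¬ IsCyclic G) : ¬ IsMulCommutative G := fun h => by
  letI : CommGroup G := { (inferInstance : Group G) with mul_comm := h.is_comm.comm }
  exact hG IsSimpleGroup.isCyclic

omit [Finite G] in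
theorem not_solvable (hG : ¬ IsMulCommutative G) : ¬ Group.IsSolvable G := fun _ =>
  hG ⟨⟨fun a b => IsSimpleGroup.comm_iff_isSolvable.mpr inferInstance a b⟩⟩

/-- The order is not a product of two prime powers. -/
theorem three_le_primeFactors (hG : ¬ IsMulCommutative G) :
    3 ≤ (Nat.card G).primeFactors.card := by
  by_contra hlt
  set n := Nat.card G with hn
  have hn0 : n ≠ 0 := Nat.card_pos.ne'
  obtain ⟨p, q, hp, hq, hs⟩ : ∃ p q : ℕ, p.Prime ∧ q.Prime ∧ n.primeFactors ⊆ {p, q} := by
    rcases Finset.eq_empty_or_nonempty n.primeFactors with h0 | ⟨p, hp⟩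
    · exact ⟨2, 3, Nat.prime_two, Nat.prime_three, by simp [h0]⟩
    rcases Finset.eq_empty_or_nonempty (n.primeFactors.erase p) with h1 | ⟨q, hq⟩
    · exact ⟨p, p, Nat.prime_of_mem_primeFactors hp, Nat.prime_of_mem_primeFactors hp,
        fun x hx => by
          by_contra hne
          have hxe : x ∈ n.primeFactors.erase p := Finset.mem_erase.mpr ⟨by simpa using hne, hx⟩
          simp [h1] at hxe⟩
    refine ⟨p, q, Nat.prime_of_mem_primeFactors hp,
      Nat.prime_of_mem_primeFactors (Finset.mem_of_mem_erase hq), fun x hx => ?_⟩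
    by_contra hne
    simp only [Finset.mem_insert, Finset.mem_singleton, not_or] at hne
    have hsub : ({p, q, x} : Finset ℕ) ⊆ n.primeFactors := by
      simp [Finset.insert_subset_iff, hp, hx, Finset.mem_of_mem_erase hq]
    have := Finset.card_le_card hsub
    rw [Finset.card_insert_of_notMem (by
        simp [Ne.symm hne.1, (Finset.mem_erase.mp hq).1.symm]),
      Finset.card_pair (Ne.symm hne.2)] at this
    omega
  apply not_solvable hG
  by_cases hpq : p = q
  · subst hpq
    refine Cfsg.Agent.S0144.result p p (n.factorization p) 0 hp hp ?_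
    rw [pow_zero, mul_one]
    rw [← hn]
    conv_lhs => rw [← Nat.prod_factorization_pow_eq_self hn0]
    rw [Finsupp.prod_of_support_subset (s := {p}) _ (by
      rw [Nat.support_factorization]; exact fun x hx => by simpa using hs hx) _ (by simp)]
    simp
  refine Cfsg.Agent.S0144.result p q (n.factorization p) (n.factorization q) hp hq ?_
  rw [← hn]
  conv_lhs => rw [← Nat.prod_factorization_pow_eq_self hn0]
  rw [Finsupp.prod_of_support_subset _ (by simpa using hs) _ (by simp), Finset.prod_pair hpq]

/-- The number of Sylow `p`-subgroups is a divisor of the order, congruent to one, different from one. -/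
theorem exists_sylow_number (hG : ¬ IsMulCommutative G) (p : ℕ) [Fact p.Prime]
    (hd : p ∣ Nat.card G) :
    ∃ d, d ∣ Nat.card G ∧ d % p = 1 ∧ 1 < d ∧ ∀ P : Sylow p G,
      (normalizer ((P : Subgroup G) : Set G)).index = d := by
  obtain ⟨P⟩ : Nonempty (Sylow p G) := inferInstance
  refine ⟨Nat.card (Sylow p G), ?_, ?_, ?_, fun Q => (Sylow.card_eq_index_normalizer Q).symm⟩
  · rw [Sylow.card_eq_index_normalizer P]
    exact index_dvd_card _
  · have h := card_sylow_modEq_one p G
    rw [Nat.ModEq, Nat.one_mod_eq_one.mpr (Fact.out : p.Prime).ne_one] at h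
    exact h
  · by_contra hle
    have h1 : Nat.card (Sylow p G) = 1 := le_antisymm (not_lt.mp hle) Nat.card_pos
    have hN : normalizer ((P : Subgroup G) : Set G) = ⊤ :=
      index_eq_one.mp ((Sylow.card_eq_index_normalizer P).symm.trans h1)
    rcases (normalizer_eq_top_iff.mp hN).eq_bot_or_eq_top with h2 | h2
    · exact P.ne_bot_of_dvd_card hd h2
    · exact not_solvable hG (by
        have := P.isPGroup'
        rw [h2] at this
        have hG' : IsPGroup p G := this.of_equiv Subgroup.topEquiv
        haveI := hG'.isNilpotent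
        infer_instance)

end Cfsg.Agent.H30.SmallSimple
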